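/-
Bulk checking of Todd-Coxeter certificates.

A certificate `D : Data` holds a permutation table (one network per letter), a spanning tree (`sel`, `depth`),
and deduction ranks.  An edge `i -a-> tau a i` is justified when it is a tree edge or lies on a closed loop
(relator loop, or subgroup loop at coset 0) all whose other edges have smaller rank.
Main results: `exists_phi` (equivariant map from the table onto the orbit of the base point),
`tree_induction`, `trace_eq`.
-/
import Cfsg.Agent.Lib.CosetEnum.Net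

set_option autoImplicit false

namespace Cfsg.Agent.CosetEnum

/-- A certificate. Letters are `0, ..., k-1`; words are lists of letters in the order of application. -/
structure Data where
  B : ℕ
  lg : ℕ
  n : ℕ
  k : ℕ
  inv : List ℕ
  nets : List (List (ℕ × ℕ))
  ranks : List ℕ
  sels : List ℕ
  depth : ℕ
  loops : List (Bool × List ℕ)

namespace Data

variable (D : Data)

noncomputable def one : ℕ := rep D.B D.lg
noncomputable def idv : ℕ := ramp D.B D.lg
noncomputable def net (a : ℕ) : List (ℕ × ℕ) := D.nets.getD a []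
noncomputable def invl (a : ℕ) : ℕ := D.inv.getD a 0
noncomputable def rank (a : ℕ) : ℕ := D.ranks.getD a 0
noncomputable def sel (a : ℕ) : ℕ := D.sels.getD a 0
noncomputable def act (a : ℕ) (i : ℕ) : ℕ := tau D.B D.lg (D.net a) i

/-- The image vector of a word. -/
noncomputable def trace (w : List ℕ) : ℕ :=
  List.rec (motive := fun _ => ℕ) D.idv (fun a _ ih => force ih fun V => applyNet D.B (D.net a) V) w

/-- The action of a word on a point. -/
noncomputable def tw : List ℕ → ℕ → ℕ
  | [], i => i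
  | a :: v, i => tw v (D.act a i)

/-- Check: the networks are valid, respect `[0, n)` and are inverse in pairs. -/
noncomputable def permLetterOK (a : ℕ) : Bool :=
  netOK D.B D.lg (D.net a) && (Nat.blt (D.invl a) D.k &&
    (Nat.beq (Nat.shiftRight (Nat.xor (applyNet D.B (D.net a) D.idv) D.idv) (Nat.mul D.n D.B)) 0 &&
      (Nat.beq (D.trace [a, D.invl a]) D.idv && Nat.beq (D.trace [D.invl a, a]) D.idv)))

noncomputable def permOK : Bool :=
  Nat.blt D.lg D.B && (Nat.blt D.k D.B && (Nat.blt 0 D.n && (Nat.ble D.n (Nat.shiftLeft 1 D.lg) &&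
    Nat.rec (motive := fun _ => Bool) true (fun a ih => D.permLetterOK a && ih) D.k)))

/-- Check: a vector has all guard bits clear. -/
noncomputable def guardOK (V : ℕ) : Bool :=
  force V fun V => Nat.beq (Nat.shiftRight V (Nat.mul (Nat.shiftLeft 1 D.lg) D.B)) 0 &&
    Nat.beq (Nat.land V (Nat.shiftLeft D.one (Nat.sub D.B 1))) 0

noncomputable def selOK (a : ℕ) : Bool :=
  force (D.sel a) fun m =>
    Nat.beq (Nat.land m D.one) m &&
      Nat.beq (Nat.land m (vlt D.B D.one (applyNet D.B (D.net (D.invl a)) D.depth) D.depth)) m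

noncomputable def selSum : ℕ :=
  Nat.rec (motive := fun _ => ℕ) 0 (fun a ih => Nat.add (D.sel a) ih) D.k

noncomputable def treeOK : Bool :=
  D.guardOK D.depth && (Nat.beq (Nat.add D.selSum 1) (below D.B D.n D.one) &&
    Nat.rec (motive := fun _ => Bool) true (fun a ih => D.selOK a && ih) D.k)

noncomputable def rankOK : Bool :=
  Nat.rec (motive := fun _ => Bool) true (fun a ih => D.guardOK (D.rank a) && ih) D.k

/-- Prefix maximum step. -/
noncomputable def pmStep (a pm : ℕ) : ℕ := applyNet D.B (D.net (D.invl a)) (vmax D.B D.one pm (D.rank a))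

/-- One loop: computes the suffix maxima backwards and adds the flags of justified edges. -/
noncomputable def go (w : List ℕ) : ℕ → ℕ → (ℕ → ℕ → ℕ) → ℕ :=
  List.rec (motive := fun _ => ℕ → ℕ → (ℕ → ℕ → ℕ) → ℕ) (fun _ acc K => K 0 acc)
    (fun a _ ih pm acc K => force (D.pmStep a pm) fun pm' => ih pm' acc fun sv acc' =>
      force (applyNet D.B (D.net a) sv) fun s =>
      force (Nat.lor acc' (Nat.shiftLeft (vlt D.B D.one (vmax D.B D.one pm s) (D.rank a)) a)) fun acc'' =>
      force (vmax D.B D.one (D.rank a) s) fun sa => K sa acc'') w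

/-- Initial prefix vector: all starting points for relators, only `0` for subgroup loops. -/
noncomputable def pm0 (b : Bool) : ℕ :=
  Bool.rec (motive := fun _ => ℕ)
    (Nat.xor (Nat.mul D.one (Nat.sub (Nat.shiftLeft 1 (Nat.sub D.B 1)) 1))
      (Nat.sub (Nat.shiftLeft 1 (Nat.sub D.B 1)) 1)) 0 b

/-- Tree flags. -/
noncomputable def treeAcc : ℕ :=
  Nat.rec (motive := fun _ => ℕ) 0
    (fun a ih => Nat.lor ih (Nat.shiftLeft (D.sel a) (D.invl a))) D.k

noncomputable def goLoops (l : List (Bool × List ℕ)) : ℕ → ℕ :=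
  List.rec (motive := fun _ => ℕ → ℕ) (fun acc => acc)
    (fun p _ ih acc => D.go p.2 (D.pm0 p.1) acc fun _ acc' => ih acc') l

noncomputable def coverOK : Bool :=
  force (Nat.mul (below D.B D.n D.one) (Nat.sub (Nat.shiftLeft 1 D.k) 1)) fun M =>
    Nat.beq (Nat.land (D.goLoops D.loops D.treeAcc) M) M

/-- A closed relator word. -/
noncomputable def closed (w : List ℕ) : Bool :=
  List.all w (fun a => Nat.blt a D.k) && Nat.beq (D.trace w) D.idv

/-- A word fixing `0`. -/
noncomputable def fixes0 (w : List ℕ) : Bool :=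
  List.all w (fun a => Nat.blt a D.k) && Nat.beq (lane D.B (D.trace w) 0) 0

noncomputable def loopsOK : Bool :=
  List.all D.loops fun p => Bool.rec (D.fixes0 p.2) (D.closed p.2) p.1

noncomputable def check : Bool :=
  D.permOK && (D.treeOK && (D.rankOK && (D.loopsOK && D.coverOK)))

/-! ### Soundness -/

theorem natRec_all {p : ℕ → Bool} : ∀ {k : ℕ},
    Nat.rec (motive := fun _ => Bool) true (fun a ih => p a && ih) k = true → ∀ a < k, p a = true
  | 0, _, a, ha => absurd ha (Nat.not_lt_zero a)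
  | k + 1, h, a, ha => by
    simp only [Bool.and_eq_true] at h
    rcases Nat.lt_succ_iff_lt_or_eq.mp ha with h' | h'
    · exact natRec_all h.2 a h'
    · exact h' ▸ h.1

variable {D}

structure PermFacts (D : Data) : Prop where
  hB : 0 < D.B
  hlg : D.lg + 1 ≤ D.B
  hk : D.k < D.B
  hn : 0 < D.n
  hnN : D.n ≤ 2 ^ D.lg
  net_eq : ∀ a < D.k, ∀ f : ℕ → ℕ, (∀ i < 2 ^ D.lg, f i < 2 ^ D.B) →
    applyNet D.B (D.net a) (pack D.B (2 ^ D.lg) f) = pack D.B (2 ^ D.lg) (fun i => f (D.act a i))
  act_lt : ∀ a < D.k, ∀ i < 2 ^ D.lg, D.act a i < 2 ^ D.lg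
  inv_lt : ∀ a < D.k, D.invl a < D.k
  inv_act : ∀ a < D.k, ∀ i < 2 ^ D.lg, D.act (D.invl a) (D.act a i) = i
  act_inv : ∀ a < D.k, ∀ i < 2 ^ D.lg, D.act a (D.act (D.invl a) i) = i
  act_lt_n : ∀ a < D.k, ∀ i < D.n, D.act a i < D.n

theorem trace_eq_aux (hB : 0 < D.B) (hlg : D.lg ≤ D.B)
    (hok : ∀ a < D.k, netOK D.B D.lg (D.net a) = true) :
    ∀ (w : List ℕ), (∀ a ∈ w, a < D.k) →
      D.trace w = pack D.B (2 ^ D.lg) (fun i => D.tw w i) ∧ ∀ i < 2 ^ D.lg, D.tw w i < 2 ^ D.lg
  | [], _ => ⟨ramp_eq D.B D.lg, fun _ h => h⟩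
  | a :: v, hw => by
    obtain ⟨h1, h2⟩ := trace_eq_aux hB hlg hok v (fun b hb => hw b (List.mem_cons_of_mem a hb))
    obtain ⟨h3, h4⟩ := tau_spec hB hlg (hok a (hw a List.mem_cons_self))
    refine ⟨?_, fun i hi => h2 _ (h3 i hi)⟩
    show force (D.trace v) (fun V => applyNet D.B (D.net a) V) = _
    rw [force_eq, h1, h4 _ (fun i hi => self_lt_two_pow_of_lt hlg (h2 i hi))]
    rfl

theorem permFacts (h : D.permOK = true) : PermFacts D := by
  unfold permOK at h
  simp only [Bool.and_eq_true, Nat.ble_eq, Nat.blt_eq] at h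
  obtain ⟨hlg, hk, hn, hnN, hall⟩ := h
  have hN : Nat.shiftLeft 1 D.lg = 2 ^ D.lg := Nat.one_shiftLeft _
  rw [hN] at hnN
  have hB : 0 < D.B := by omega
  have hlgB : D.lg ≤ D.B := by omega
  have hall' := natRec_all hall
  simp only [permLetterOK, Bool.and_eq_true, beq_iff, Nat.blt_eq] at hall'
  have hnet : ∀ a < D.k, netOK D.B D.lg (D.net a) = true := fun a ha => (hall' a ha).1
  have hts : ∀ a < D.k, (∀ i < 2 ^ D.lg, D.act a i < 2 ^ D.lg) := fun a ha => (tau_spec hB hlgB (hnet a ha)).1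
  have hinvlt : ∀ a < D.k, D.invl a < D.k := fun a ha => (hall' a ha).2.1
  have hid : ∀ u v : ℕ, u < D.k → v < D.k → D.trace [u, v] = D.idv →
      ∀ i < 2 ^ D.lg, D.act v (D.act u i) = i := by
    intro u v hu hv htr i hi
    obtain ⟨h1, h2⟩ := trace_eq_aux hB hlgB hnet [u, v] (by simp [hu, hv])
    rw [h1] at htr
    exact pack_inj hB (fun j hj => self_lt_two_pow_of_lt hlgB (h2 j hj))
      (fun j hj => self_lt_two_pow_of_lt hlgB hj) (htr.trans (ramp_eq D.B D.lg)) i hi
  have hia : ∀ a < D.k, ∀ i < 2 ^ D.lg, D.act (D.invl a) (D.act a i) = i := fun a ha =>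
    hid a _ ha (hinvlt a ha) (hall' a ha).2.2.2.1
  refine ⟨hB, hlg, hk, hn, hnN, fun a ha => (tau_spec hB hlgB (hnet a ha)).2, hts, hinvlt, hia,
    fun a ha => hid _ a (hinvlt a ha) ha (hall' a ha).2.2.2.2, ?_⟩
  intro a ha i hi
  have hN' : i < 2 ^ D.lg := lt_of_lt_of_le hi hnN
  have hpad := (hall' a ha).2.2.1
  change (applyNet D.B (D.net a) D.idv ^^^ D.idv) >>> (D.n * D.B) = 0 at hpad
  rw [show D.idv = ramp D.B D.lg from rfl, ramp_eq,
    (tau_spec hB hlgB (hnet a ha)).2 _ (fun j hj => self_lt_two_pow_of_lt hlgB hj)] at hpad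
  have hbd : ∀ j < 2 ^ D.lg, D.act a j < 2 ^ D.B := fun j hj => self_lt_two_pow_of_lt hlgB (hts a ha j hj)
  change (pack D.B (2 ^ D.lg) (fun j => D.act a j) ^^^ _) >>> _ = 0 at hpad
  rw [pack_xor hB hbd (fun j hj => self_lt_two_pow_of_lt hlgB hj),
    pack_shr hB (fun j hj => Nat.xor_lt_two_pow (hbd j hj) (self_lt_two_pow_of_lt hlgB hj))] at hpad
  by_contra hge
  have hlt := hts a ha i hN'
  have hb : ∀ j < 2 ^ D.lg, (if j + D.n < 2 ^ D.lg then D.act a (j + D.n) ^^^ (j + D.n) else 0) < 2 ^ D.B := by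
    intro j _
    split
    · exact Nat.xor_lt_two_pow (hbd _ ‹_›) (self_lt_two_pow_of_lt hlgB ‹_›)
    · exact Nat.two_pow_pos _
  have h := pack_inj hB hb (fun _ _ => Nat.two_pow_pos _) (hpad.trans pack_zero.symm) (D.act a i - D.n) (by omega)
  have e : D.act a i - D.n + D.n = D.act a i := by omega
  rw [e, if_pos hlt] at h
  have hfix : D.act a (D.act a i) = D.act a i := Nat.eq_of_xor_eq_zero h
  have := congrArg (D.act (D.invl a)) hfix
  rw [hia a ha _ hlt, hia a ha _ hN'] at this
  omega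

theorem trace_eq (hp : PermFacts D) (w : List ℕ) (hw : ∀ a ∈ w, a < D.k) :
    D.trace w = pack D.B (2 ^ D.lg) (fun i => D.tw w i) := by
  induction w with
  | nil => exact ramp_eq D.B D.lg
  | cons a v ih =>
    have hv := fun b hb => hw b (List.mem_cons_of_mem a hb)
    show force (D.trace v) (fun V => applyNet D.B (D.net a) V) = _
    rw [force_eq, ih hv]
    have htw : ∀ (u : List ℕ), (∀ b ∈ u, b < D.k) → ∀ i < 2 ^ D.lg, D.tw u i < 2 ^ D.lg := by
      intro u
      induction u with
      | nil => exact fun _ i hi => hi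
      | cons b u ihu =>
        intro hu i hi
        exact ihu (fun c hc => hu c (List.mem_cons_of_mem b hc)) _ (hp.act_lt b (hu b List.mem_cons_self) i hi)
    rw [hp.net_eq a (hw a List.mem_cons_self) _
      (fun i hi => self_lt_two_pow_of_lt (by have := hp.hlg; omega) (htw v hv i hi))]
    rfl

theorem tw_lt (hp : PermFacts D) : ∀ (w : List ℕ), (∀ a ∈ w, a < D.k) → ∀ i < 2 ^ D.lg, D.tw w i < 2 ^ D.lg
  | [], _, _, hi => hi
  | a :: v, hw, i, hi =>
    tw_lt hp v (fun b hb => hw b (List.mem_cons_of_mem a hb)) _ (hp.act_lt a (hw a List.mem_cons_self) i hi)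

theorem tw_lt_n (hp : PermFacts D) : ∀ (w : List ℕ), (∀ a ∈ w, a < D.k) → ∀ i < D.n, D.tw w i < D.n
  | [], _, _, hi => hi
  | a :: v, hw, i, hi =>
    tw_lt_n hp v (fun b hb => hw b (List.mem_cons_of_mem a hb)) _ (hp.act_lt_n a (hw a List.mem_cons_self) i hi)

theorem closed_spec (hp : PermFacts D) {w : List ℕ} (h : D.closed w = true) :
    (∀ a ∈ w, a < D.k) ∧ ∀ i < D.n, D.tw w i = i := by
  unfold closed at h
  simp only [Bool.and_eq_true, beq_iff, List.all_eq_true, Nat.blt_eq] at h
  refine ⟨h.1, fun i hi => ?_⟩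
  have hi' : i < 2 ^ D.lg := lt_of_lt_of_le hi hp.hnN
  have hlg := hp.hlg
  exact pack_inj hp.hB (fun j hj => self_lt_two_pow_of_lt (by omega) (tw_lt hp w h.1 j hj))
    (fun j hj => self_lt_two_pow_of_lt (by omega) hj) ((trace_eq hp w h.1).symm.trans (h.2.trans (ramp_eq D.B D.lg))) i hi'

theorem fixes0_spec (hp : PermFacts D) {w : List ℕ} (h : D.fixes0 w = true) :
    (∀ a ∈ w, a < D.k) ∧ D.tw w 0 = 0 := by
  unfold fixes0 at h
  simp only [Bool.and_eq_true, beq_iff, List.all_eq_true, Nat.blt_eq] at h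
  refine ⟨h.1, ?_⟩
  have hlg := hp.hlg
  have := h.2
  rwa [trace_eq hp w h.1, lane_pack hp.hB
    (fun j hj => self_lt_two_pow_of_lt (by omega) (tw_lt hp w h.1 j hj)) (Nat.two_pow_pos _)] at this

/-! #### Vectors with clear guard bits -/

theorem guard_spec (hp : PermFacts D) {V : ℕ} (h : D.guardOK V = true) :
    V = pack D.B (2 ^ D.lg) (lane D.B V) ∧ ∀ i < 2 ^ D.lg, lane D.B V i < 2 ^ (D.B - 1) := by
  unfold guardOK at h
  rw [force_eq] at h
  simp only [Bool.and_eq_true, beq_iff] at h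
  have hN : Nat.shiftLeft 1 D.lg = 2 ^ D.lg := Nat.one_shiftLeft _
  rw [hN] at h
  have h1 : V >>> (2 ^ D.lg * D.B) = 0 := h.1
  have h2 : V &&& D.one <<< (D.B - 1) = 0 := h.2
  rw [Nat.shiftRight_eq_div_pow, Nat.div_eq_zero_iff] at h1
  have hV : V < 2 ^ (2 ^ D.lg * D.B) := by
    rcases h1 with h1 | h1
    · exact absurd h1 (Nat.two_pow_pos _).ne'
    · exact h1
  have hp' := pack_lane hp.hB hV
  refine ⟨hp'.symm, fun i hi => ?_⟩
  have hhalf := half_lt hp.hB
  have hG : ∀ j < 2 ^ D.lg, (fun _ : ℕ => 2 ^ (D.B - 1)) j < 2 ^ D.B := fun _ _ => by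
    have := Nat.two_pow_pos (D.B - 1)
    show 2 ^ (D.B - 1) < 2 ^ D.B
    omega
  rw [show D.one = rep D.B D.lg from rfl, rep_eq, Nat.shiftLeft_eq, pack_mul, ← hp'] at h2
  simp only [Nat.one_mul] at h2
  rw [pack_land hp.hB (fun j _ => lane_lt _ _ j) hG] at h2
  have hb := pack_inj hp.hB (fun j hj => Nat.and_lt_two_pow _ (hG j hj)) (fun _ _ => Nat.two_pow_pos _) (h2.trans pack_zero.symm) i hi
  rw [Nat.and_two_pow] at hb
  by_contra hge
  have hlt := lane_lt D.B V i
  have : (lane D.B V i).testBit (D.B - 1) = true := by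
    rw [Nat.testBit_eq_decide_div_mod_eq]
    have : lane D.B V i / 2 ^ (D.B - 1) = 1 := by
      rw [Nat.div_eq_iff (Nat.two_pow_pos _)]
      omega
    simp [this]
  rw [this] at hb
  have := Nat.two_pow_pos (D.B - 1)
  simp at hb

/-- Rank of an edge. -/
noncomputable def rk (D : Data) (a i : ℕ) : ℕ := lane D.B (D.rank a) i

theorem rank_spec (hp : PermFacts D) (h : D.rankOK = true) : ∀ a < D.k,
    D.rank a = pack D.B (2 ^ D.lg) (D.rk a) ∧ ∀ i < 2 ^ D.lg, D.rk a i < 2 ^ (D.B - 1) :=
  fun a ha => guard_spec hp (natRec_all h a ha)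

/-! #### The tree -/

/-- Tree depth. -/
noncomputable def dep (D : Data) (i : ℕ) : ℕ := lane D.B D.depth i

theorem natRec_sum {sel : ℕ → ℕ} {B N : ℕ} (f : ℕ → ℕ → ℕ) :
    ∀ {k : ℕ}, (∀ a < k, sel a = pack B N (f a)) →
      Nat.rec (motive := fun _ => ℕ) 0 (fun a ih => Nat.add (sel a) ih) k
        = pack B N (fun i => ∑ a ∈ Finset.range k, f a i)
  | 0, _ => by simp [pack_zero]
  | k + 1, h => by
    show sel k + Nat.rec (motive := fun _ => ℕ) 0 (fun a ih => Nat.add (sel a) ih) k = _
    rw [natRec_sum f (fun a ha => h a (by omega)), h k (by omega), pack_add]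
    exact pack_congr fun i _ => by rw [Finset.sum_range_succ, Nat.add_comm]

structure TreeFacts (D : Data) : Prop where
  sel_eq : ∀ a < D.k, D.sel a = pack D.B (2 ^ D.lg) (lane D.B (D.sel a))
  sel01 : ∀ a < D.k, ∀ i < 2 ^ D.lg, lane D.B (D.sel a) i = 0 ∨ lane D.B (D.sel a) i = 1
  exists_sel : ∀ i, 0 < i → i < D.n → ∃ a < D.k, lane D.B (D.sel a) i = 1
  unique_sel : ∀ i < 2 ^ D.lg, ∀ a < D.k, ∀ b < D.k, lane D.B (D.sel a) i = 1 → lane D.B (D.sel b) i = 1 → a = b
  sel_range : ∀ i < 2 ^ D.lg, ∀ a < D.k, lane D.B (D.sel a) i = 1 → 0 < i ∧ i < D.n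
  dep_lt : ∀ a < D.k, ∀ i < 2 ^ D.lg, lane D.B (D.sel a) i = 1 → D.dep (D.act (D.invl a) i) < D.dep i

theorem treeFacts (hp : PermFacts D) (h : D.treeOK = true) : TreeFacts D := by
  unfold treeOK at h
  simp only [Bool.and_eq_true, beq_iff] at h
  obtain ⟨hg, hsum, hall⟩ := h
  obtain ⟨hdeq, hdb⟩ := guard_spec hp hg
  have hone : D.one = pack D.B (2 ^ D.lg) (fun _ => 1) := rep_eq _ _
  have hB := hp.hB
  have hhalf := half_lt hB
  have hall' : ∀ a < D.k, D.selOK a = true := natRec_all hall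
  have hm : ∀ a < D.k, D.sel a = pack D.B (2 ^ D.lg) (lane D.B (D.sel a)) ∧
      (∀ i < 2 ^ D.lg, lane D.B (D.sel a) i = 0 ∨ lane D.B (D.sel a) i = 1) ∧
      ∀ i < 2 ^ D.lg, lane D.B (D.sel a) i = 1 → D.dep (D.act (D.invl a) i) < D.dep i := by
    intro a ha
    have h := hall' a ha
    unfold selOK at h
    rw [force_eq] at h
    simp only [Bool.and_eq_true, beq_iff] at h
    obtain ⟨h1, h2⟩ := h
    rw [hone] at h1 h2
    obtain ⟨hp1, h01⟩ := mask_zero_one hB h1
    refine ⟨hp1, h01, fun i hi hi1 => ?_⟩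
    have hdB : ∀ j < 2 ^ D.lg, lane D.B D.depth j < 2 ^ D.B := fun j _ => lane_lt _ _ _
    have hact := hp.act_lt _ (hp.inv_lt a ha)
    rw [hdeq, hp.net_eq _ (hp.inv_lt a ha) _ hdB, vlt_eq hB (fun j hj => hdb _ (hact j hj)) hdb, hp1] at h2
    have hb : ∀ j < 2 ^ D.lg, (if lane D.B D.depth (D.act (D.invl a) j) < lane D.B D.depth j then 1 else 0) < 2 ^ D.B :=
      fun j _ => by
        have := Nat.two_pow_pos (D.B - 1)
        split <;> omega
    have h3 : lane D.B (D.sel a) i &&&
        (if lane D.B D.depth (D.act (D.invl a) i) < lane D.B D.depth i then 1 else 0) = lane D.B (D.sel a) i :=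
      pack_inj hB (fun j _ => lt_of_le_of_lt Nat.and_le_left (lane_lt _ _ j)) (fun j _ => lane_lt _ _ j)
        ((pack_land hB (fun j _ => lane_lt _ _ j) hb).symm.trans h2) i hi
    rw [hi1] at h3
    by_contra hn
    unfold dep at hn
    rw [if_neg hn] at h3
    simp at h3
  have hs : D.selSum = pack D.B (2 ^ D.lg) (fun i => ∑ a ∈ Finset.range D.k, lane D.B (D.sel a) i) :=
    natRec_sum _ (fun a ha => (hm a ha).1)
  have hsum' : D.selSum + 1 = below D.B D.n D.one := hsum
  rw [hs, hone, below_eq hB] at hsum'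
  have h1pack : (1 : ℕ) = pack D.B (2 ^ D.lg) (fun i => if i = 0 then 1 else 0) := by
    obtain ⟨M, hM⟩ : ∃ M, 2 ^ D.lg = M + 1 := ⟨2 ^ D.lg - 1, by have := Nat.two_pow_pos D.lg; omega⟩
    rw [hM]
    simp only [pack]
    rw [pack_congr (g := fun _ => 0) (fun i _ => by simp), pack_zero]
    simp
  replace hsum' := (congrArg (fun t => pack D.B (2 ^ D.lg)
    (fun i => ∑ a ∈ Finset.range D.k, lane D.B (D.sel a) i) + t) h1pack).symm.trans hsum'
  rw [pack_add] at hsum'
  have hkB : D.k + 1 ≤ D.B := hp.hk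
  have hBp : D.k + 1 < 2 ^ D.B := lt_of_le_of_lt hkB Nat.lt_two_pow_self
  have hbd : ∀ i < 2 ^ D.lg, (∑ a ∈ Finset.range D.k, lane D.B (D.sel a) i) + (if i = 0 then 1 else 0) < 2 ^ D.B := by
    intro i hi
    have : ∑ a ∈ Finset.range D.k, lane D.B (D.sel a) i ≤ ∑ a ∈ Finset.range D.k, 1 :=
      Finset.sum_le_sum fun a ha => by
        rcases (hm a (Finset.mem_range.mp ha)).2.1 i hi with h | h <;> omega
    simp at this
    split <;> omega
  have hbd2 : ∀ i < 2 ^ D.lg, (if i < D.n then 1 else 0) < 2 ^ D.B := fun i _ => by split <;> omega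
  have hlane := pack_inj hB hbd hbd2 hsum'
  refine ⟨fun a ha => (hm a ha).1, fun a ha => (hm a ha).2.1, ?_, ?_, ?_, fun a ha => (hm a ha).2.2⟩
  · intro i h0 hin
    have h := hlane i (lt_of_lt_of_le hin hp.hnN)
    rw [if_neg (by omega), if_pos hin] at h
    by_contra hc
    have hzero : ∑ a ∈ Finset.range D.k, lane D.B (D.sel a) i = 0 := Finset.sum_eq_zero fun a ha => by
      rcases (hm a (Finset.mem_range.mp ha)).2.1 i (lt_of_lt_of_le hin hp.hnN) with h | h
      · exact h
      · exact absurd ⟨a, Finset.mem_range.mp ha, h⟩ hc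
    omega
  · intro i hi a ha b hb h1 h2
    by_contra hne
    have hle : lane D.B (D.sel a) i + lane D.B (D.sel b) i ≤ ∑ c ∈ Finset.range D.k, lane D.B (D.sel c) i := by
      rw [← Finset.sum_pair hne (f := fun c => lane D.B (D.sel c) i)]
      exact Finset.sum_le_sum_of_subset (by simp [Finset.insert_subset_iff, ha, hb])
    have h := hlane i hi
    split at h <;> split at h <;> omega
  · intro i hi a ha h1
    have hle : lane D.B (D.sel a) i ≤ ∑ c ∈ Finset.range D.k, lane D.B (D.sel c) i :=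
      Finset.single_le_sum (f := fun c => lane D.B (D.sel c) i) (fun _ _ => Nat.zero_le _) (Finset.mem_range.mpr ha)
    have h := hlane i hi
    split at h <;> split at h <;> omega

theorem tree_induction (hp : PermFacts D) (ht : TreeFacts D) {P : ℕ → Prop} (h0 : P 0)
    (hstep : ∀ a < D.k, ∀ i < D.n, P i → P (D.act a i)) : ∀ i < D.n, P i := by
  suffices H : ∀ d i, i < D.n → D.dep i = d → P i from fun i hi => H _ i hi rfl
  intro d
  induction d using Nat.strong_induction_on with
  | _ d ih =>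
    intro i hi hd
    by_cases h : i = 0
    · exact h ▸ h0
    · obtain ⟨a, ha, hsel⟩ := ht.exists_sel i (Nat.pos_of_ne_zero h) hi
      have hi' := lt_of_lt_of_le hi hp.hnN
      have hlt := ht.dep_lt a ha i hi' hsel
      have hpn := hp.act_lt_n _ (hp.inv_lt a ha) i hi
      have := hstep a ha _ hpn (ih _ (hd ▸ hlt) _ hpn rfl)
      rwa [hp.act_inv a ha i hi'] at this

/-! #### Deductions -/

variable {G X : Type*} [Group G] [MulAction G X]

/-- The group element of a word. -/
def ev (el : ℕ → G) : List ℕ → G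
  | [] => 1
  | a :: v => ev el v * el a

theorem ev_append (el : ℕ → G) : ∀ (u v : List ℕ), ev el (u ++ v) = ev el v * ev el u
  | [], v => by simp [ev]
  | a :: u, v => by simp [ev, ev_append el u v, mul_assoc]

/-- The edge `(a, i)` holds. -/
def Edge (D : Data) (el : ℕ → G) (φ : ℕ → X) (a i : ℕ) : Prop := el a • φ i = φ (D.act a i)

/-- All edges of rank `< r` hold. -/
def Low (D : Data) (el : ℕ → G) (φ : ℕ → X) (r : ℕ) : Prop :=
  ∀ j < D.n, ∀ b < D.k, D.rk b j < r → Edge D el φ b j

/-- A bound vector `q` certifies the word `v`. -/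
def Certifies (D : Data) (el : ℕ → G) (φ : ℕ → X) (v : List ℕ) (q : ℕ → ℕ) : Prop :=
  ∀ i < D.n, ∀ r, q i < r → r < 2 ^ (D.B - 1) → Low D el φ r → ev el v • φ i = φ (D.tw v i)

/-- Every flag of `acc` points at a justified edge. -/
def AccOK (D : Data) (el : ℕ → G) (φ : ℕ → X) (acc : ℕ) : Prop :=
  ∀ i < D.n, ∀ a < D.k, acc.testBit (i * D.B + a) = true →
    Low D el φ (D.rk a i) → Edge D el φ a i

/-- The pure version of `go`. -/
noncomputable def goS (D : Data) : List ℕ → ℕ → ℕ → ℕ × ℕ
  | [], _, acc => (0, acc)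
  | a :: v, pm, acc =>
    let s := applyNet D.B (D.net a) (D.goS v (D.pmStep a pm) acc).1
    (vmax D.B D.one (D.rank a) s,
      Nat.lor (D.goS v (D.pmStep a pm) acc).2
        (Nat.shiftLeft (vlt D.B D.one (vmax D.B D.one pm s) (D.rank a)) a))

theorem go_eq (D : Data) : ∀ (w : List ℕ) (pm acc : ℕ) (K : ℕ → ℕ → ℕ),
    D.go w pm acc K = K (D.goS w pm acc).1 (D.goS w pm acc).2
  | [], _, _, _ => rfl
  | a :: v, pm, acc, K => by
    show force (D.pmStep a pm) (fun pm' => D.go v pm' acc _) = _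
    rw [force_eq, go_eq D v, force_eq, force_eq, force_eq]
    rfl

theorem goS_sound (hp : PermFacts D) (hr : ∀ a < D.k, D.rank a = pack D.B (2 ^ D.lg) (D.rk a) ∧
      ∀ i < 2 ^ D.lg, D.rk a i < 2 ^ (D.B - 1))
    (el : ℕ → G) (φ : ℕ → X) :
    ∀ (w : List ℕ), (∀ a ∈ w, a < D.k) → ∀ (p : ℕ → ℕ) (acc : ℕ),
      (∀ i < 2 ^ D.lg, p i < 2 ^ (D.B - 1)) → Certifies D el φ w p → AccOK D el φ acc →
      ∃ s : ℕ → ℕ, (∀ i < 2 ^ D.lg, s i < 2 ^ (D.B - 1)) ∧
        (D.goS w (pack D.B (2 ^ D.lg) p) acc).1 = pack D.B (2 ^ D.lg) s ∧ Certifies D el φ w s ∧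
        AccOK D el φ (D.goS w (pack D.B (2 ^ D.lg) p) acc).2
  | [], _, p, acc, _, _, hacc => by
    refine ⟨fun _ => 0, fun _ _ => Nat.two_pow_pos _, ?_, fun i _ r _ _ _ => ?_, hacc⟩
    · show 0 = _
      rw [pack_zero]
    · show (1 : G) • φ i = φ i
      exact one_smul _ _
  | a :: v, hw, p, acc, hpb, hcert, hacc => by
    have ha : a < D.k := hw a List.mem_cons_self
    have hv : ∀ b ∈ v, b < D.k := fun b hb => hw b (List.mem_cons_of_mem a hb)
    have hB := hp.hB
    have hhalf := half_lt hB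
    have hia := hp.inv_lt a ha
    have hone : D.one = pack D.B (2 ^ D.lg) (fun _ => 1) := rep_eq _ _
    obtain ⟨hreq, hrb⟩ := hr a ha
    -- prefix vector after the letter
    let p' := fun y => max (p (D.act (D.invl a) y)) (D.rk a (D.act (D.invl a) y))
    have hp'b : ∀ i < 2 ^ D.lg, p' i < 2 ^ (D.B - 1) := fun i hi =>
      max_lt (hpb _ (hp.act_lt _ hia i hi)) (hrb _ (hp.act_lt _ hia i hi))
    have hpm' : D.pmStep a (pack D.B (2 ^ D.lg) p) = pack D.B (2 ^ D.lg) p' := by
      unfold pmStep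
      rw [hone, hreq, vmax_eq hB hpb hrb, hp.net_eq _ hia]
      intro i hi
      have := max_lt (hpb i hi) (hrb i hi)
      omega
    have hcert' : Certifies D el φ v p' := by
      intro y hy r hlt hrlt hlow
      have hy' := lt_of_lt_of_le hy hp.hnN
      set i := D.act (D.invl a) y with hidef
      have hi : i < D.n := hp.act_lt_n _ hia y hy
      have hiy : D.act a i = y := hp.act_inv a ha y hy'
      have hlt' : max (p i) (D.rk a i) < r := hlt
      have h1 := hcert i hi r (lt_of_le_of_lt (le_max_left _ _) hlt') hrlt hlow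
      have h2 : el a • φ i = φ (D.act a i) := hlow i hi a ha (lt_of_le_of_lt (le_max_right _ _) hlt')
      rw [show ev el (a :: v) = ev el v * el a from rfl, mul_smul, h2, hiy] at h1
      rw [h1]
      show φ (D.tw v (D.act a i)) = _
      rw [hiy]
    obtain ⟨s, hsb, hseq, hscert, hsacc⟩ := goS_sound hp hr el φ v hv p' acc hp'b hcert' hacc
    let t := fun i => s (D.act a i)
    have htb : ∀ i < 2 ^ D.lg, t i < 2 ^ (D.B - 1) := fun i hi => hsb _ (hp.act_lt a ha i hi)
    have hT : applyNet D.B (D.net a) (D.goS v (D.pmStep a (pack D.B (2 ^ D.lg) p)) acc).1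
        = pack D.B (2 ^ D.lg) t := by
      rw [hpm', hseq, hp.net_eq a ha]
      intro i hi
      have := hsb i hi
      omega
    refine ⟨fun i => max (D.rk a i) (t i), fun i hi => max_lt (hrb i hi) (htb i hi), ?_, ?_, ?_⟩
    · show vmax D.B D.one (D.rank a) (applyNet D.B (D.net a) _) = _
      rw [hT, hone, hreq, vmax_eq hB hrb htb]
    · intro i hi r hlt hrlt hlow
      have hlt' : max (D.rk a i) (t i) < r := hlt
      have h2 : el a • φ i = φ (D.act a i) := hlow i hi a ha (lt_of_le_of_lt (le_max_left _ _) hlt')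
      have h3 := hscert _ (hp.act_lt_n a ha i hi) r (lt_of_le_of_lt (le_max_right _ _) hlt') hrlt hlow
      rw [show ev el (a :: v) = ev el v * el a from rfl, mul_smul, h2, h3]
      rfl
    · intro i hi b hb hbit hlow
      have hi' := lt_of_lt_of_le hi hp.hnN
      rw [show (D.goS (a :: v) (pack D.B (2 ^ D.lg) p) acc).2 =
        (D.goS v (D.pmStep a (pack D.B (2 ^ D.lg) p)) acc).2 |||
          (vlt D.B D.one (vmax D.B D.one (pack D.B (2 ^ D.lg) p)
            (applyNet D.B (D.net a) (D.goS v (D.pmStep a (pack D.B (2 ^ D.lg) p)) acc).1)) (D.rank a)) <<< a from rfl,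
        hT, Nat.testBit_lor, Bool.or_eq_true] at hbit
      rcases hbit with hbit | hbit
      · rw [hpm'] at hbit
        exact hsacc i hi b hb hbit hlow
      · have hmb : ∀ j < 2 ^ D.lg, max (p j) (t j) < 2 ^ (D.B - 1) := fun j hj => max_lt (hpb j hj) (htb j hj)
        rw [hone, hreq, vmax_eq hB hpb htb, vlt_eq hB hmb hrb, Nat.shiftLeft_eq, pack_mul] at hbit
        have hkB := hp.hk
        have hflag : ∀ j < 2 ^ D.lg, (if max (p j) (t j) < D.rk a j then 1 else 0) * 2 ^ a < 2 ^ D.B := by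
          intro j _
          have := Nat.two_pow_pos (D.B - 1)
          have := Nat.two_pow_pos a
          have : 2 ^ a < 2 ^ D.B := Nat.pow_lt_pow_right (by norm_num) (by omega)
          split <;> omega
        rw [testBit_pack hB hflag] at hbit
        have e1 : (i * D.B + b) / D.B = i := by
          rw [Nat.add_comm, Nat.add_mul_div_right _ _ hB, Nat.div_eq_of_lt (by omega), Nat.zero_add]
        have e2 : (i * D.B + b) % D.B = b := by
          rw [Nat.add_comm, Nat.add_mul_mod_self_right, Nat.mod_eq_of_lt (by omega)]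
        rw [e1, e2] at hbit
        simp only [Bool.and_eq_true] at hbit
        have hb2 := hbit.2
        split at hb2
        · rename_i hmax
          rw [Nat.one_mul, Nat.testBit_two_pow] at hb2
          have hab : a = b := of_decide_eq_true hb2
          subst hab
          have hr' := hrb i hi'
          have h1 := hcert i hi (D.rk a i) (lt_of_le_of_lt (le_max_left _ _) hmax) hr' hlow
          have h3 := hscert _ (hp.act_lt_n a ha i hi) (D.rk a i)
            (lt_of_le_of_lt (le_max_right _ _) hmax) hr' hlow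
          rw [show ev el (a :: v) = ev el v * el a from rfl, mul_smul,
            show D.tw (a :: v) i = D.tw v (D.act a i) from rfl, ← h3] at h1
          exact smul_left_cancel _ h1
        · simp at hb2

theorem pm0_spec (hp : PermFacts D) (b : Bool) : D.pm0 b =
    pack D.B (2 ^ D.lg) (fun i => if b = true ∨ i = 0 then 0 else 2 ^ (D.B - 1) - 1) := by
  cases b
  · have hB := hp.hB
    have hhalf := half_lt hB
    show ((rep D.B D.lg * (1 <<< (D.B - 1) - 1)) ^^^ (1 <<< (D.B - 1) - 1)) = _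
    rw [rep_eq, Nat.one_shiftLeft, pack_mul]
    have hg : (2 ^ (D.B - 1) - 1) = pack D.B (2 ^ D.lg) (fun i => if i = 0 then 2 ^ (D.B - 1) - 1 else 0) := by
      obtain ⟨M, hM⟩ : ∃ M, 2 ^ D.lg = M + 1 := ⟨2 ^ D.lg - 1, by have := Nat.two_pow_pos D.lg; omega⟩
      rw [hM]
      simp only [pack]
      rw [pack_congr (g := fun _ => 0) (fun i _ => by simp), pack_zero]
      simp
    conv_lhs => arg 2; rw [hg]
    have hpos := Nat.two_pow_pos (D.B - 1)
    rw [pack_xor hB (fun _ _ => by omega) (fun _ _ => by split <;> omega)]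
    refine pack_congr fun i _ => ?_
    by_cases h : i = 0 <;> simp [h]
  · show 0 = _
    rw [pack_congr (g := fun _ => 0) (fun i _ => by simp), pack_zero]

theorem natRec_lor {f : ℕ → ℕ} : ∀ {k : ℕ} (j : ℕ),
    (Nat.rec (motive := fun _ => ℕ) 0 (fun a ih => Nat.lor ih (f a)) k).testBit j = true →
      ∃ a < k, (f a).testBit j = true
  | 0, j, h => by simp at h
  | k + 1, j, h => by
    change (Nat.rec (motive := fun _ => ℕ) 0 (fun a ih => Nat.lor ih (f a)) k ||| f k).testBit j = true at h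
    rw [Nat.testBit_lor, Bool.or_eq_true] at h
    rcases h with h | h
    · obtain ⟨a, ha, h'⟩ := natRec_lor (f := f) j h
      exact ⟨a, by omega, h'⟩
    · exact ⟨k, by omega, h⟩

/-- The map from the table to the orbit of the base point. -/
theorem exists_phi (hc : D.check = true) (el : ℕ → G) (base : X)
    (hinv : ∀ a < D.k, el (D.invl a) * el a = 1)
    (hrel : ∀ w, (true, w) ∈ D.loops → ev el w = 1)
    (hsub : ∀ w, (false, w) ∈ D.loops → ev el w • base = base) :
    ∃ φ : ℕ → X, φ 0 = base ∧ ∀ a < D.k, ∀ i < D.n, el a • φ i = φ (D.act a i) := by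
  unfold check at hc
  simp only [Bool.and_eq_true] at hc
  obtain ⟨hperm, htree, hrank, hloops, hcover⟩ := hc
  have hp := permFacts hperm
  have ht := treeFacts hp htree
  have hr := rank_spec hp hrank
  have hB := hp.hB
  have hhalf := half_lt hB
  classical
  -- the map
  let P : ℕ → ℕ → Prop := fun i a =>
    a < D.k ∧ i < 2 ^ D.lg ∧ lane D.B (D.sel a) i = 1
  let φ : ℕ → X := (measure D.dep).wf.fix fun i rec =>
    if h : ∃ a, P i a then
      el h.choose • rec (D.act (D.invl h.choose) i)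
        (ht.dep_lt _ h.choose_spec.1 i h.choose_spec.2.1 h.choose_spec.2.2)
    else base
  have hφ : ∀ i, φ i = if h : ∃ a, P i a then el h.choose • φ (D.act (D.invl h.choose) i) else base :=
    fun i => WellFounded.fix_eq _ _ i
  have hφ0 : φ 0 = base := by
    rw [hφ 0, dif_neg]
    rintro ⟨a, ha, hi, hsel⟩
    exact absurd (ht.sel_range 0 hi a ha hsel).1 (lt_irrefl 0)
  have hedge : ∀ a < D.k, ∀ i < 2 ^ D.lg, lane D.B (D.sel a) i = 1 → el a • φ (D.act (D.invl a) i) = φ i := by
    intro a ha i hi hsel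
    have h : ∃ b, P i b := ⟨a, ha, hi, hsel⟩
    have hsame : h.choose = a := ht.unique_sel i hi _ h.choose_spec.1 a ha h.choose_spec.2.2 hsel
    conv_rhs => rw [hφ i, dif_pos h, hsame]
  -- initial flags
  have hacc0 : AccOK D el φ D.treeAcc := by
    intro i hi b hb hbit _
    obtain ⟨a, ha, hbit⟩ := natRec_lor _ hbit
    have hia := hp.inv_lt a ha
    change (D.sel a <<< D.invl a).testBit (i * D.B + b) = true at hbit
    rw [ht.sel_eq a ha, Nat.shiftLeft_eq, pack_mul] at hbit
    have hkB := hp.hk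
    have hpow : 2 ^ D.invl a < 2 ^ D.B := Nat.pow_lt_pow_right (by norm_num) (by omega)
    have hflag : ∀ j < 2 ^ D.lg, lane D.B (D.sel a) j * 2 ^ D.invl a < 2 ^ D.B := by
      intro j hj
      have := Nat.two_pow_pos (D.B - 1)
      have := Nat.two_pow_pos (D.invl a)
      rcases ht.sel01 a ha j hj with h | h <;> rw [h] <;> omega
    rw [testBit_pack hB hflag] at hbit
    have e1 : (i * D.B + b) / D.B = i := by
      rw [Nat.add_comm, Nat.add_mul_div_right _ _ hB, Nat.div_eq_of_lt (by omega), Nat.zero_add]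
    have e2 : (i * D.B + b) % D.B = b := by
      rw [Nat.add_comm, Nat.add_mul_mod_self_right, Nat.mod_eq_of_lt (by omega)]
    rw [e1, e2] at hbit
    simp only [Bool.and_eq_true] at hbit
    have hi' := lt_of_lt_of_le hi hp.hnN
    rcases ht.sel01 a ha i hi' with h | h
    · rw [h] at hbit; simp at hbit
    · rw [h, Nat.one_mul, Nat.testBit_two_pow] at hbit
      have hab : D.invl a = b := of_decide_eq_true hbit.2
      subst hab
      show el (D.invl a) • φ i = φ (D.act (D.invl a) i)
      conv_lhs => rw [← hedge a ha i hi' h]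
      rw [← mul_smul, hinv a ha, one_smul]
  -- all loops
  have hgo : ∀ (l : List (Bool × List ℕ)), (∀ p ∈ l, p ∈ D.loops) → ∀ acc, AccOK D el φ acc →
      AccOK D el φ (D.goLoops l acc) := by
    intro l
    induction l with
    | nil => exact fun _ _ h => h
    | cons p l ih =>
      intro hl acc hacc
      show AccOK D el φ (D.go p.2 (D.pm0 p.1) acc fun _ acc' => D.goLoops l acc')
      rw [go_eq]
      refine ih (fun q hq => hl q (List.mem_cons_of_mem p hq)) _ ?_
      obtain ⟨b, w⟩ := p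
      have hmem := hl (b, w) List.mem_cons_self
      have hok := List.all_eq_true.mp hloops (b, w) hmem
      dsimp only at hok
      set q0 : ℕ → ℕ := fun i => if b = true ∨ i = 0 then 0 else 2 ^ (D.B - 1) - 1 with hq0
      have hq0b : ∀ i < 2 ^ D.lg, q0 i < 2 ^ (D.B - 1) := fun i _ => by
        have := Nat.two_pow_pos (D.B - 1)
        simp only [hq0]
        split <;> omega
      show AccOK D el φ (D.goS w (D.pm0 b) acc).2
      rw [pm0_spec hp b]
      cases b with
      | true =>
        obtain ⟨hwlt, hclosed⟩ := closed_spec hp hok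
        have hcert : Certifies D el φ w q0 := fun i hi r _ _ _ => by
          rw [hrel w hmem, one_smul, hclosed i hi]
        obtain ⟨_, _, _, _, h⟩ := goS_sound hp hr el φ w hwlt q0 acc hq0b hcert hacc
        exact h
      | false =>
        obtain ⟨hwlt, hfix⟩ := fixes0_spec hp hok
        have hcert : Certifies D el φ w q0 := fun i hi r hlt hrlt _ => by
          have : i = 0 := by
            by_contra hne
            simp [hq0, hne] at hlt
            omega
          subst this
          rw [hfix, hφ0, hsub w hmem]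
        obtain ⟨_, _, _, _, h⟩ := goS_sound hp hr el φ w hwlt q0 acc hq0b hcert hacc
        exact h
  have hfinal := hgo D.loops (fun _ h => h) _ hacc0
  unfold coverOK at hcover
  rw [force_eq] at hcover
  simp only [beq_iff] at hcover
  have hM : Nat.mul (below D.B D.n D.one) (Nat.sub (Nat.shiftLeft 1 D.k) 1)
      = pack D.B (2 ^ D.lg) (fun i => (if i < D.n then 1 else 0) * (2 ^ D.k - 1)) := by
    show below D.B D.n D.one * (1 <<< D.k - 1) = _
    rw [show D.one = rep D.B D.lg from rfl, rep_eq, below_eq hB, Nat.one_shiftLeft, pack_mul]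
  rw [hM] at hcover
  have hkB := hp.hk
  have hpk : 2 ^ D.k - 1 < 2 ^ D.B := by
    have := Nat.pow_lt_pow_right (show 1 < 2 by norm_num) hkB
    have := Nat.two_pow_pos D.k
    omega
  have hjust : ∀ a < D.k, ∀ i < D.n, Low D el φ (D.rk a i) → Edge D el φ a i := by
    intro a ha i hi hlow
    refine hfinal i hi a ha ?_ hlow
    have hMbit : (pack D.B (2 ^ D.lg) (fun i => (if i < D.n then 1 else 0) * (2 ^ D.k - 1))).testBit (i * D.B + a)
        = true := by
      rw [testBit_pack hB (fun j _ => by split <;> omega)]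
      have e1 : (i * D.B + a) / D.B = i := by
        rw [Nat.add_comm, Nat.add_mul_div_right _ _ hB, Nat.div_eq_of_lt (by omega), Nat.zero_add]
      have e2 : (i * D.B + a) % D.B = a := by
        rw [Nat.add_comm, Nat.add_mul_mod_self_right, Nat.mod_eq_of_lt (by omega)]
      have : i < 2 ^ D.lg := lt_of_lt_of_le hi hp.hnN
      rw [e1, e2]
      simp [hi, this, Nat.testBit_two_pow_sub_one, ha]
    rw [← hcover] at hMbit
    change (D.goLoops D.loops D.treeAcc &&& _).testBit _ = true at hMbit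
    rw [Nat.testBit_land, Bool.and_eq_true] at hMbit
    exact hMbit.1
  refine ⟨φ, hφ0, ?_⟩
  suffices H : ∀ r a i, a < D.k → i < D.n → D.rk a i = r → Edge D el φ a i from
    fun a ha i hi => H _ a i ha hi rfl
  intro r
  induction r using Nat.strong_induction_on with
  | _ r ih =>
    intro a i ha hi hr'
    exact hjust a ha i hi fun j hj b hb hlt => ih _ (hr' ▸ hlt) b j hb hj rfl

end Data

end Cfsg.Agent.CosetEnum
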