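/-
Orbit certificates on a coset table: for a set of words, a mask `M` that is connected (spanning tree with
depths) and, optionally, invariant.
Main results: `popcount_eq`, `Data.orbit_reach`, `Data.orbit_invariant`.
-/
import Cfsg.Agent.Lib.CosetEnum.Check

set_option autoImplicit false

namespace Cfsg.Agent.CosetEnum

/-- Sum of all lanes, by halving. -/
noncomputable def laneSum (B : ℕ) : ℕ → ℕ → ℕ := fun j =>
  Nat.rec (motive := fun _ => ℕ → ℕ) (fun V => V)
    (fun j ih V => force (Nat.add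
      (Nat.land V (Nat.sub (Nat.shiftLeft 1 (Nat.mul (Nat.shiftLeft 1 j) B)) 1))
      (Nat.shiftRight V (Nat.mul (Nat.shiftLeft 1 j) B))) fun V => ih V) j

theorem laneSum_eq {B : ℕ} : ∀ (j : ℕ) (f : ℕ → ℕ), (∑ i ∈ Finset.range (2 ^ j), f i) < 2 ^ B →
    laneSum B j (pack B (2 ^ j) f) = ∑ i ∈ Finset.range (2 ^ j), f i
  | 0, f, _ => by simp [laneSum, pack]
  | j + 1, f, h => by
    show force (Nat.land (pack B (2 ^ (j + 1)) f) (1 <<< ((1 <<< j) * B) - 1) +
      (pack B (2 ^ (j + 1)) f) >>> ((1 <<< j) * B)) (fun V => laneSum B j V) = _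
    rw [force_eq]
    have e : 2 ^ (j + 1) = 2 ^ j + 2 ^ j := by rw [pow_succ]; omega
    have hle : ∀ i < 2 ^ j, f i < 2 ^ B := fun i hi =>
      lt_of_le_of_lt (Finset.single_le_sum (fun _ _ => Nat.zero_le _) (Finset.mem_range.mpr (by omega))) h
    have hlt : pack B (2 ^ j) f < 2 ^ (2 ^ j * B) := pack_lt hle
    rw [Nat.one_shiftLeft, Nat.one_shiftLeft, e, pack_append,
      show Nat.land (pack B (2 ^ j) f + 2 ^ (2 ^ j * B) * pack B (2 ^ j) fun i => f (2 ^ j + i))
        (2 ^ (2 ^ j * B) - 1) = pack B (2 ^ j) f from ?_]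
    · rw [Nat.shiftRight_eq_div_pow, Nat.add_mul_div_left _ _ (Nat.two_pow_pos _), Nat.div_eq_of_lt hlt,
        Nat.zero_add, pack_add]
      have hs : (∑ i ∈ Finset.range (2 ^ j), (f i + f (2 ^ j + i))) = ∑ i ∈ Finset.range (2 ^ j + 2 ^ j), f i := by
        rw [Finset.sum_add_distrib, Finset.sum_range_add f (2 ^ j) (2 ^ j)]
      rw [laneSum_eq j _ (by rw [hs, ← e]; exact h), hs]
    · show (_ : ℕ) &&& _ = _
      rw [Nat.and_two_pow_sub_one_eq_mod, Nat.add_mul_mod_self_left, Nat.mod_eq_of_lt hlt]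

/-- An orbit certificate. -/
structure OrbitData where
  words : List (List ℕ)
  sels : List ℕ
  depth : ℕ
  mask : ℕ
  root : ℕ
  size : ℕ

namespace Data

variable (D : Data) (O : OrbitData)

/-- Inverse word. -/
noncomputable def winv (w : List ℕ) : List ℕ := (w.map D.invl).reverse

/-- Pull a vector back along a word. -/
noncomputable def pull (w : List ℕ) (V : ℕ) : ℕ :=
  List.rec (motive := fun _ => ℕ) V (fun a _ ih => force ih fun U => applyNet D.B (D.net a) U) w

noncomputable def orbSelOK (p : List ℕ × ℕ) : Bool :=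
  List.all p.1 (fun a => Nat.blt a D.k) && force p.2 fun m =>
    Nat.beq (Nat.land m D.one) m && (Nat.beq (Nat.land m (D.pull (D.winv p.1) O.mask)) m &&
      Nat.beq (Nat.land m (vlt D.B D.one (D.pull (D.winv p.1) O.depth) O.depth)) m)

noncomputable def orbSum (l : List ℕ) : ℕ :=
  List.rec (motive := fun _ => ℕ) 0 (fun m _ ih => force ih fun r => Nat.add m r) l

/-- The mask is connected to the root and has `size` elements. -/
noncomputable def reachOK : Bool :=
  Nat.beq O.sels.length O.words.length && (Nat.blt O.words.length D.B &&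
  (D.guardOK O.depth && ((O.words.zip O.sels).all (D.orbSelOK O) &&
  (Nat.beq (Nat.land O.mask D.one) O.mask && (Nat.beq (Nat.shiftRight O.mask (Nat.mul D.n D.B)) 0 &&
  (Nat.beq (Nat.add (orbSum O.sels) (Nat.shiftLeft 1 (Nat.mul O.root D.B))) O.mask &&
  (Nat.blt O.root D.n && Nat.beq (laneSum D.B D.lg O.mask) O.size)))))))

/-- The mask is invariant under the words. -/
noncomputable def invariantOK : Bool :=
  O.words.all fun w => Nat.beq (D.pull w O.mask) O.mask

variable {D O}

theorem tw_append : ∀ (u v : List ℕ) (i : ℕ), D.tw (u ++ v) i = D.tw v (D.tw u i)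
  | [], _, _ => rfl
  | a :: u, v, i => tw_append u v (D.act a i)

theorem pull_eq (hp : PermFacts D) : ∀ (w : List ℕ), (∀ a ∈ w, a < D.k) → ∀ (f : ℕ → ℕ),
    (∀ i < 2 ^ D.lg, f i < 2 ^ D.B) →
      D.pull w (pack D.B (2 ^ D.lg) f) = pack D.B (2 ^ D.lg) (fun i => f (D.tw w i))
  | [], _, _, _ => rfl
  | a :: v, hw, f, hf => by
    have hv := fun b hb => hw b (List.mem_cons_of_mem a hb)
    show force (D.pull v (pack D.B (2 ^ D.lg) f)) (fun U => applyNet D.B (D.net a) U) = _
    rw [force_eq, pull_eq hp v hv f hf, hp.net_eq a (hw a List.mem_cons_self)]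
    · rfl
    · exact fun i hi => hf _ (tw_lt hp v hv i hi)

theorem winv_mem (hp : PermFacts D) {w : List ℕ} (hw : ∀ a ∈ w, a < D.k) : ∀ a ∈ D.winv w, a < D.k := by
  intro a ha
  simp only [winv, List.mem_reverse, List.mem_map] at ha
  obtain ⟨b, hb, rfl⟩ := ha
  exact hp.inv_lt b (hw b hb)

theorem tw_winv (hp : PermFacts D) : ∀ {w : List ℕ}, (∀ a ∈ w, a < D.k) → ∀ i < 2 ^ D.lg,
    D.tw w (D.tw (D.winv w) i) = i
  | [], _, _, _ => rfl
  | a :: v, hw, i, hi => by
    have hv : ∀ b ∈ v, b < D.k := fun b hb => hw b (List.mem_cons_of_mem a hb)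
    have ha := hw a List.mem_cons_self
    have : D.winv (a :: v) = D.winv v ++ [D.invl a] := by simp [winv]
    rw [this, tw_append]
    show D.tw v (D.act a (D.act (D.invl a) (D.tw (D.winv v) i))) = i
    rw [hp.act_inv a ha _ (tw_lt hp _ (winv_mem hp hv) i hi)]
    exact tw_winv hp hv i hi

theorem orbSum_eq {B N : ℕ} : ∀ (l : List ℕ) (g : ℕ → ℕ → ℕ), (∀ m ∈ l, m = pack B N (g m)) →
    orbSum l = pack B N (fun i => (l.map fun m => g m i).sum)
  | [], _, _ => pack_zero.symm
  | m :: l, g, h => by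
    show force (orbSum l) (fun r => m + r) = _
    rw [force_eq, orbSum_eq l g (fun x hx => h x (List.mem_cons_of_mem m hx))]
    conv_lhs => arg 1; rw [h m List.mem_cons_self]
    rw [pack_add]
    exact pack_congr fun i _ => by simp

/-- The points of the mask. -/
def maskSet (D : Data) (O : OrbitData) : Set ℕ := {i | i < D.n ∧ lane D.B O.mask i = 1}

theorem orbit_reach (hp : PermFacts D) (h : D.reachOK O = true) :
    O.root ∈ maskSet D O ∧ (maskSet D O).ncard = O.size ∧
      ∀ {P : ℕ → Prop}, P O.root →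
        (∀ w ∈ O.words, ∀ i < D.n, P i → P (D.tw w i)) → ∀ i ∈ maskSet D O, P i := by
  unfold reachOK at h
  simp only [Bool.and_eq_true, beq_iff, Nat.blt_eq, List.all_eq_true] at h
  obtain ⟨hlen, hwB, hg, hall, hM1, hM2, hsum, hroot, hsize⟩ := h
  have hB := hp.hB
  have hhalf := half_lt hB
  have hlgB : D.lg ≤ D.B := by have := hp.hlg; omega
  obtain ⟨hdeq, hdb⟩ := guard_spec hp hg
  have hone : D.one = pack D.B (2 ^ D.lg) (fun _ => 1) := rep_eq _ _
  change O.mask &&& D.one = O.mask at hM1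
  rw [hone] at hM1
  obtain ⟨hMp, hM01⟩ := mask_zero_one hB hM1
  -- the selection masks
  have hsel : ∀ w m, (w, m) ∈ O.words.zip O.sels → (∀ a ∈ w, a < D.k) ∧
      m = pack D.B (2 ^ D.lg) (lane D.B m) ∧ (∀ i < 2 ^ D.lg, lane D.B m i = 0 ∨ lane D.B m i = 1) ∧
      ∀ i < 2 ^ D.lg, lane D.B m i = 1 → lane D.B O.mask (D.tw (D.winv w) i) = 1 ∧
        lane D.B O.depth (D.tw (D.winv w) i) < lane D.B O.depth i := by
    intro w m hwm
    have h := hall (w, m) hwm
    unfold orbSelOK at h
    rw [force_eq] at h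
    simp only [Bool.and_eq_true, beq_iff, List.all_eq_true, Nat.blt_eq] at h
    obtain ⟨hw, h1, hmk, h2⟩ := h
    change m &&& D.one = m at h1
    rw [hone] at h1 h2
    obtain ⟨hp1, h01⟩ := mask_zero_one hB h1
    refine ⟨hw, hp1, h01, fun i hi hi1 => ⟨?_, ?_⟩⟩
    · change m &&& D.pull (D.winv w) O.mask = m at hmk
      rw [hMp, pull_eq hp _ (winv_mem hp hw) _ (fun j _ => lane_lt _ _ j), hp1] at hmk
      have h3 : lane D.B m i &&& lane D.B O.mask (D.tw (D.winv w) i) = lane D.B m i :=
        pack_inj hB (fun j _ => lt_of_le_of_lt Nat.and_le_left (lane_lt _ _ j)) (fun j _ => lane_lt _ _ j)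
          ((pack_land hB (fun j _ => lane_lt _ _ j) (fun j _ => lane_lt _ _ _)).symm.trans hmk) i hi
      rw [hi1] at h3
      rcases hM01 _ (tw_lt hp _ (winv_mem hp hw) i hi) with h | h
      · rw [h] at h3; simp at h3
      · exact h
    have hdB : ∀ j < 2 ^ D.lg, lane D.B O.depth j < 2 ^ D.B := fun j _ => lane_lt _ _ _
    have htw := tw_lt hp _ (winv_mem hp hw)
    rw [hdeq, pull_eq hp _ (winv_mem hp hw) _ hdB, vlt_eq hB (fun j hj => hdb _ (htw j hj)) hdb, hp1] at h2
    have hb : ∀ j < 2 ^ D.lg,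
        (if lane D.B O.depth (D.tw (D.winv w) j) < lane D.B O.depth j then 1 else 0) < 2 ^ D.B := fun j _ => by
      have := Nat.two_pow_pos (D.B - 1)
      split <;> omega
    have h3 : lane D.B m i &&&
        (if lane D.B O.depth (D.tw (D.winv w) i) < lane D.B O.depth i then 1 else 0) = lane D.B m i :=
      pack_inj hB (fun j _ => lt_of_le_of_lt Nat.and_le_left (lane_lt _ _ j)) (fun j _ => lane_lt _ _ j)
        ((pack_land hB (fun j _ => lane_lt _ _ j) hb).symm.trans h2) i hi
    rw [hi1] at h3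
    by_contra hn
    rw [if_neg hn] at h3
    simp at h3
  have hselmem : ∀ m ∈ O.sels, ∃ w ∈ O.words, (w, m) ∈ O.words.zip O.sels := by
    intro m hm
    obtain ⟨j, hj, rfl⟩ := List.getElem_of_mem hm
    refine ⟨O.words[j]'(by omega), List.getElem_mem _, ?_⟩
    exact List.mem_of_getElem (i := j) (h := by simp; omega) (by simp)
  have hs := orbSum_eq (B := D.B) (N := 2 ^ D.lg) O.sels (fun m i => lane D.B m i) (fun m hm => by
    obtain ⟨w, _, hwm⟩ := hselmem m hm
    exact (hsel w m hwm).2.1)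
  have hroot' : O.root < 2 ^ D.lg := lt_of_lt_of_le hroot hp.hnN
  have h1pack : 1 <<< (O.root * D.B) = pack D.B (2 ^ D.lg) (fun i => if i = O.root then 1 else 0) := by
    obtain ⟨M, hM⟩ : ∃ M, 2 ^ D.lg = O.root + (M + 1) := ⟨2 ^ D.lg - O.root - 1, by omega⟩
    rw [hM, pack_append]
    simp only [pack]
    rw [pack_congr (N := O.root) (g := fun _ => 0) (fun i hi => if_neg (by omega)), pack_zero,
      pack_congr (N := M) (g := fun _ => 0) (fun i _ => if_neg (by omega)), pack_zero, Nat.one_shiftLeft]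
    simp
  change orbSum O.sels + 1 <<< (O.root * D.B) = O.mask at hsum
  rw [hs, h1pack, pack_add] at hsum
  have hbound : ∀ (l : List ℕ), (∀ m ∈ l, m ∈ O.sels) → ∀ i < 2 ^ D.lg, (l.map fun m => lane D.B m i).sum ≤ l.length := by
    intro l hl i hi
    induction l with
    | nil => simp
    | cons m l ih =>
      have := ih (fun x hx => hl x (List.mem_cons_of_mem m hx))
      obtain ⟨w, _, hwm⟩ := hselmem m (hl m List.mem_cons_self)
      rcases (hsel w m hwm).2.2.1 i hi with h | h <;> simp [h] <;> omega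
  have hbd : ∀ i < 2 ^ D.lg, (O.sels.map fun m => lane D.B m i).sum + (if i = O.root then 1 else 0) < 2 ^ D.B := by
    intro i hi
    have := hbound O.sels (fun _ h => h) i hi
    have h2 : D.B < 2 ^ D.B := Nat.lt_two_pow_self
    split <;> omega
  rw [hMp] at hsum
  have hlane := pack_inj hB hbd (fun i _ => lane_lt _ _ i) hsum
  have hnpad : ∀ i < 2 ^ D.lg, D.n ≤ i → lane D.B O.mask i = 0 := by
    intro i hi hni
    change O.mask >>> (D.n * D.B) = 0 at hM2
    rw [hMp, pack_shr hB (fun j _ => lane_lt _ _ j)] at hM2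
    have hb : ∀ j < 2 ^ D.lg, (if j + D.n < 2 ^ D.lg then lane D.B O.mask (j + D.n) else 0) < 2 ^ D.B := fun j _ => by
      split
      · exact lane_lt _ _ _
      · exact Nat.two_pow_pos _
    have h := pack_inj hB hb (fun _ _ => Nat.two_pow_pos _) (hM2.trans pack_zero.symm) (i - D.n) (by omega)
    have e : i - D.n + D.n = i := by omega
    rwa [e, if_pos hi] at h
  refine ⟨⟨hroot, ?_⟩, ?_, ?_⟩
  · have h := hlane O.root hroot'
    rw [if_pos rfl] at h
    rcases hM01 O.root hroot' with h0 | h0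
    · omega
    · exact h0
  · have hcard : (maskSet D O) = ↑((Finset.range D.n).filter fun i => lane D.B O.mask i = 1) := by
      ext i; simp [maskSet]
    rw [hcard, Set.ncard_coe_finset, ← hsize]
    conv_rhs => rw [hMp]
    have hsub : Finset.range D.n ⊆ Finset.range (2 ^ D.lg) := Finset.range_subset_range.mpr hp.hnN
    have htot : ∑ i ∈ Finset.range (2 ^ D.lg), lane D.B O.mask i =
        ((Finset.range D.n).filter fun i => lane D.B O.mask i = 1).card := by
      rw [← Finset.sum_subset hsub (fun i hi hni => hnpad i (Finset.mem_range.mp hi)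
        (by simpa using hni)), Finset.card_filter]
      refine Finset.sum_congr rfl fun i hi => ?_
      rcases hM01 i (lt_of_lt_of_le (Finset.mem_range.mp hi) hp.hnN) with h | h <;> simp [h]
    rw [laneSum_eq D.lg _ ?_, htot]
    rw [htot]
    calc ((Finset.range D.n).filter fun i => lane D.B O.mask i = 1).card ≤ D.n :=
          (Finset.card_filter_le _ _).trans (by simp)
      _ ≤ 2 ^ D.lg := hp.hnN
      _ < 2 ^ D.B := Nat.pow_lt_pow_right (by norm_num) (by have := hp.hlg; omega)
  · intro P h0 hstep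
    suffices H : ∀ d, ∀ i ∈ maskSet D O, lane D.B O.depth i = d → P i from fun i hi => H _ i hi rfl
    intro d
    induction d using Nat.strong_induction_on with
    | _ d ih =>
      intro i hi hd
      by_cases hir : i = O.root
      · exact hir ▸ h0
      · have hi' : i < 2 ^ D.lg := lt_of_lt_of_le hi.1 hp.hnN
        have h := hlane i hi'
        rw [if_neg hir, hi.2, Nat.add_zero] at h
        obtain ⟨m, hm, hm1⟩ : ∃ m ∈ O.sels, lane D.B m i = 1 := by
          by_contra hc
          have hz : (O.sels.map fun m => lane D.B m i).sum = 0 := List.sum_eq_zero fun x hx => by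
            obtain ⟨m, hm, rfl⟩ := List.mem_map.mp hx
            obtain ⟨w, _, hwm⟩ := hselmem m hm
            rcases (hsel w m hwm).2.2.1 i hi' with h | h
            · exact h
            · exact absurd ⟨m, hm, h⟩ hc
          omega
        obtain ⟨w, hw, hwm⟩ := hselmem m hm
        obtain ⟨hwk, _, _, hdlt⟩ := hsel w m hwm
        obtain ⟨hjmem, hlt⟩ := hdlt i hi' hm1
        set j := D.tw (D.winv w) i
        have hj : j < D.n := tw_lt_n hp _ (winv_mem hp hwk) i hi.1
        have := hstep w hw j hj (ih _ (hd ▸ hlt) j ⟨hj, hjmem⟩ rfl)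
        rwa [tw_winv hp hwk i hi'] at this

theorem orbit_invariant (hp : PermFacts D) (h : D.reachOK O = true) (hi : D.invariantOK O = true) :
    ∀ w ∈ O.words, (∀ a ∈ w, a < D.k) ∧ ∀ i < D.n, (D.tw w i ∈ maskSet D O ↔ i ∈ maskSet D O) := by
  intro w hw
  obtain ⟨j, hj, rfl⟩ := List.getElem_of_mem hw
  unfold reachOK at h
  simp only [Bool.and_eq_true, beq_iff, List.all_eq_true] at h
  obtain ⟨hlen, _, _, hall, hM1, _⟩ := h
  change O.mask &&& D.one = O.mask at hM1
  rw [show D.one = pack D.B (2 ^ D.lg) (fun _ => 1) from rep_eq _ _] at hM1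
  obtain ⟨hMp, _⟩ := mask_zero_one hp.hB hM1
  have hk : ∀ a ∈ O.words[j], a < D.k := by
    have := hall (O.words[j], O.sels[j]'(by omega)) (List.mem_of_getElem (i := j) (h := by simp; omega) (by simp))
    unfold orbSelOK at this
    simp only [Bool.and_eq_true, List.all_eq_true, Nat.blt_eq] at this
    exact this.1
  refine ⟨hk, fun i hin => ?_⟩
  have h2 : D.pull O.words[j] O.mask = O.mask := by
    have := List.all_eq_true.mp hi _ (List.getElem_mem hj)
    exact beq_iff.mp this
  rw [hMp, pull_eq hp _ hk _ (fun _ _ => lane_lt _ _ _)] at h2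
  have h3 : lane D.B O.mask (D.tw O.words[j] i) = lane D.B O.mask i :=
    pack_inj hp.hB (fun _ _ => lane_lt _ _ _) (fun _ _ => lane_lt _ _ _) h2 i (lt_of_lt_of_le hin hp.hnN)
  have h4 := tw_lt_n hp _ hk i hin
  simp [maskSet, hin, h4, h3]

end Data

end Cfsg.Agent.CosetEnum
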