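/-
Coset enumeration certificates for groups presented as `Cfsg.Spor.CoxPresented`.
Main results: `Setup.hom` (permutation representation), `Setup.cosetEquiv`, `Setup.index_eq`.
-/
import Cfsg.Agent.Lib.CosetEnum.Check

set_option autoImplicit false

namespace Cfsg.Agent.CosetEnum

open Data

variable {Gen : Type} [DecidableEq Gen]

/-- Letters for the generators: `gens[j]` is the letter `pos[j]`; `lt` decodes letters. -/
structure Setup (Gen : Type) [DecidableEq Gen] where
  edges : List (Gen × ℕ × Gen)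
  extra : List (FreeGroup Gen)
  gens : List Gen
  pos : List ℕ
  lt : List (Gen × Bool)

namespace Setup

variable (S : Setup Gen) (D : Data)

def sg (x : Gen) : ℕ := S.pos.getD (S.gens.idxOf x) 0

/-- All relators as a list. -/
def allRels : List (FreeGroup Gen) :=
  ((Cfsg.Spor.coxNodes S.edges).dedup.flatMap fun x => (Cfsg.Spor.coxNodes S.edges).dedup.map fun y =>
    (FreeGroup.of x * FreeGroup.of y) ^ Cfsg.Spor.coxLabel S.edges x y) ++ S.extra

/-- The relator set. -/
abbrev rels : Set (FreeGroup Gen) := Cfsg.Spor.coxRelators S.edges ∪ {r | r ∈ S.extra}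

/-- The presented group. -/
abbrev G : Type := PresentedGroup S.rels

/-- Letters of a word, in the order of application. -/
noncomputable def wl (r : FreeGroup Gen) : List ℕ :=
  (r.toWord.map fun p => bif p.2 then S.sg p.1 else D.invl (S.sg p.1)).reverse

/-- The group element of a letter. -/
def el (a : ℕ) : S.G :=
  match S.lt[a]? with
  | some (x, true) => PresentedGroup.of x
  | some (x, false) => (PresentedGroup.of x)⁻¹
  | none => 1

/-- Consistency of the letters. -/
noncomputable def lettersOK : Bool :=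
  S.gens.all (fun x => Nat.blt (S.sg x) D.k && (decide (S.lt[S.sg x]? = some (x, true)) &&
    (Nat.beq (D.invl (D.invl (S.sg x))) (S.sg x) &&
      (bif Nat.beq (D.invl (S.sg x)) (S.sg x) then decide (x ∈ Cfsg.Spor.coxNodes S.edges)
       else decide (S.lt[D.invl (S.sg x)]? = some (x, false)))))) &&
  (List.range D.k).all (fun a => S.gens.any fun x => Nat.beq a (S.sg x) || Nat.beq a (D.invl (S.sg x)))

noncomputable def relsOK : Bool := S.allRels.all fun r => D.closed (S.wl D r)

noncomputable def subOK (hs : List (FreeGroup Gen)) : Bool := hs.all fun h => D.fixes0 (S.wl D h)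

noncomputable def srcOK (hs : List (FreeGroup Gen)) (ext : List (List ℕ)) : Bool :=
  D.loops.all fun p => bif p.1 then (S.allRels.map (S.wl D) ++ (List.range D.k).map fun a => [a, D.invl a]).contains p.2 else (hs.map (S.wl D) ++ ext).contains p.2

theorem mem_allRels {r : FreeGroup Gen} (h : r ∈ S.rels) : r ∈ S.allRels := by
  unfold allRels
  rcases h with ⟨x, hx, y, hy, rfl⟩ | h
  · refine List.mem_append_left _ (List.mem_flatMap.mpr ⟨x, List.mem_dedup.mpr hx, ?_⟩)
    exact List.mem_map.mpr ⟨y, List.mem_dedup.mpr hy, rfl⟩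
  · exact List.mem_append_right _ h

theorem allRels_mem {r : FreeGroup Gen} (h : r ∈ S.allRels) : r ∈ S.rels := by
  unfold allRels at h
  rcases List.mem_append.mp h with h | h
  · obtain ⟨x, hx, h⟩ := List.mem_flatMap.mp h
    obtain ⟨y, hy, rfl⟩ := List.mem_map.mp h
    exact Or.inl ⟨x, List.mem_dedup.mp hx, y, List.mem_dedup.mp hy, rfl⟩
  · exact Or.inr h

theorem of_sq {x : Gen} (hx : x ∈ Cfsg.Spor.coxNodes S.edges) :
    (PresentedGroup.of x : S.G) * PresentedGroup.of x = 1 := by
  have h : (FreeGroup.of x * FreeGroup.of x) ^ Cfsg.Spor.coxLabel S.edges x x ∈ S.rels :=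
    Or.inl ⟨x, hx, x, hx, rfl⟩
  have h2 := PresentedGroup.one_of_mem h
  simpa [Cfsg.Spor.coxLabel, PresentedGroup.of] using h2

variable {S D}

theorem letters_spec (hgens : ∀ x, x ∈ S.gens) (h : S.lettersOK D = true) :
    (∀ x, S.sg x < D.k ∧ S.el (S.sg x) = PresentedGroup.of x ∧
      S.el (D.invl (S.sg x)) = (PresentedGroup.of x)⁻¹ ∧ D.invl (D.invl (S.sg x)) = S.sg x) ∧
    ∀ a < D.k, ∃ x, a = S.sg x ∨ a = D.invl (S.sg x) := by
  unfold lettersOK at h
  simp only [Bool.and_eq_true, List.all_eq_true, Nat.blt_eq, decide_eq_true_eq, List.any_eq_true,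
    Bool.or_eq_true, beq_iff, List.mem_range] at h
  obtain ⟨hx, ha⟩ := h
  refine ⟨fun x => ?_, fun a hak => ?_⟩
  · obtain ⟨hlt, hl, hinv, hc⟩ := hx x (hgens x)
    have hel : S.el (S.sg x) = PresentedGroup.of x := by simp [el, hl]
    refine ⟨hlt, hel, ?_, hinv⟩
    cases hb : Nat.beq (D.invl (S.sg x)) (S.sg x)
    · rw [hb] at hc
      have hc' := of_decide_eq_true hc
      simp [el, hc']
    · rw [hb] at hc
      have hc' := of_decide_eq_true hc
      rw [Nat.eq_of_beq_eq_true hb, hel]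
      exact (inv_eq_of_mul_eq_one_right (S.of_sq hc')).symm
  · obtain ⟨x, _, h⟩ := ha a hak
    exact ⟨x, h⟩

theorem el_inv (hgens : ∀ x, x ∈ S.gens) (h : S.lettersOK D = true) :
    ∀ a < D.k, S.el (D.invl a) * S.el a = 1 := by
  intro a ha
  obtain ⟨h1, h2⟩ := letters_spec hgens h
  obtain ⟨x, hx | hx⟩ := h2 a ha <;> subst hx
  · rw [(h1 x).2.2.1, (h1 x).2.1, inv_mul_cancel]
  · rw [(h1 x).2.2.2, (h1 x).2.1, (h1 x).2.2.1, mul_inv_cancel]

theorem lift_eq_ev {M : Type*} [Group M] (f : Gen → M) (em : ℕ → M)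
    (h1 : ∀ x, em (S.sg x) = f x) (h2 : ∀ x, em (D.invl (S.sg x)) = (f x)⁻¹) (r : FreeGroup Gen) :
    FreeGroup.lift f r = ev em (S.wl D r) := by
  conv_lhs => rw [← FreeGroup.mk_toWord (x := r)]
  rw [FreeGroup.lift_mk]
  unfold wl
  induction r.toWord with
  | nil => rfl
  | cons p t ih =>
    simp only [List.map_cons, List.prod_cons, List.reverse_cons, ev_append, ev, one_mul]
    rw [ih]
    congr 1
    rcases p with ⟨x, _ | _⟩
    · simp [h2]
    · simp [h1]

theorem mk_eq_ev (hgens : ∀ x, x ∈ S.gens) (h : S.lettersOK D = true) (r : FreeGroup Gen) :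
    PresentedGroup.mk S.rels r = ev S.el (S.wl D r) := by
  obtain ⟨h1, _⟩ := letters_spec hgens h
  rw [← lift_eq_ev (S := S) (D := D) PresentedGroup.of S.el (fun x => (h1 x).2.1) (fun x => (h1 x).2.2.1) r]
  exact DFunLike.congr_fun (FreeGroup.ext_hom (f := PresentedGroup.mk S.rels)
    (g := FreeGroup.lift PresentedGroup.of) (fun x => by simp [PresentedGroup.of])) r

/-- The permutation of a letter. -/
noncomputable def perm (D : Data) (hp : D.PermFacts) (a : ℕ) : Equiv.Perm (Fin D.n) :=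
  if ha : a < D.k then
    { toFun := fun i => ⟨D.act a i, hp.act_lt_n a ha i i.2⟩
      invFun := fun i => ⟨D.act (D.invl a) i, hp.act_lt_n _ (hp.inv_lt a ha) i i.2⟩
      left_inv := fun i => Fin.ext (hp.inv_act a ha i (lt_of_lt_of_le i.2 hp.hnN))
      right_inv := fun i => Fin.ext (hp.act_inv a ha i (lt_of_lt_of_le i.2 hp.hnN)) }
  else 1

theorem perm_apply (hp : D.PermFacts) {a : ℕ} (ha : a < D.k) (i : Fin D.n) :
    (perm D hp a i : ℕ) = D.act a i := by
  simp [perm, ha]

theorem perm_inv (hp : D.PermFacts) {a : ℕ} (ha : a < D.k) : perm D hp (D.invl a) = (perm D hp a)⁻¹ := by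
  refine eq_inv_of_mul_eq_one_left (Equiv.ext fun i => Fin.ext ?_)
  rw [Equiv.Perm.mul_apply, perm_apply hp (hp.inv_lt a ha), perm_apply hp ha]
  exact hp.inv_act a ha i (lt_of_lt_of_le i.2 hp.hnN)

theorem ev_perm (hp : D.PermFacts) : ∀ (w : List ℕ), (∀ a ∈ w, a < D.k) → ∀ i : Fin D.n,
    (ev (perm D hp) w i : ℕ) = D.tw w i
  | [], _, _ => rfl
  | a :: v, hw, i => by
    show ((ev (perm D hp) v * perm D hp a) i : ℕ) = _
    rw [Equiv.Perm.mul_apply, ev_perm hp v (fun b hb => hw b (List.mem_cons_of_mem a hb)),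
      perm_apply hp (hw a List.mem_cons_self)]
    rfl

theorem closed_ev (hp : D.PermFacts) {w : List ℕ} (h : D.closed w = true) : ev (perm D hp) w = 1 := by
  obtain ⟨hw, hfix⟩ := closed_spec hp h
  exact Equiv.ext fun i => Fin.ext ((ev_perm hp w hw i).trans (hfix i i.2))

theorem exists_hom (hgens : ∀ x, x ∈ S.gens) (hl : S.lettersOK D = true) (hp : D.PermFacts)
    (hr : S.relsOK D = true) :
    ∃ ρ : S.G →* Equiv.Perm (Fin D.n), ∀ a < D.k, ρ (S.el a) = perm D hp a := by
  obtain ⟨h1, h2⟩ := letters_spec hgens hl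
  have hrel : ∀ r ∈ S.rels, FreeGroup.lift (fun x => perm D hp (S.sg x)) r = 1 := by
    intro r hr'
    rw [lift_eq_ev (S := S) (D := D) _ (perm D hp) (fun _ => rfl) (fun x => perm_inv hp (h1 x).1)]
    exact closed_ev hp (List.all_eq_true.mp hr r (S.mem_allRels hr'))
  refine ⟨PresentedGroup.toGroup hrel, fun a ha => ?_⟩
  obtain ⟨x, rfl | rfl⟩ := h2 a ha
  · rw [(h1 x).2.1, PresentedGroup.toGroup.of]
  · rw [(h1 x).2.2.1, map_inv, PresentedGroup.toGroup.of, perm_inv hp (h1 x).1]

/-- The permutation representation on the table. -/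
noncomputable def hom (hgens : ∀ x, x ∈ S.gens) (hl : S.lettersOK D = true) (hp : D.PermFacts)
    (hr : S.relsOK D = true) : S.G →* Equiv.Perm (Fin D.n) :=
  (exists_hom hgens hl hp hr).choose

theorem hom_el (hgens : ∀ x, x ∈ S.gens) (hl : S.lettersOK D = true) (hp : D.PermFacts)
    (hr : S.relsOK D = true) {a : ℕ} (ha : a < D.k) : hom hgens hl hp hr (S.el a) = perm D hp a :=
  (exists_hom hgens hl hp hr).choose_spec a ha

theorem hom_mk (hgens : ∀ x, x ∈ S.gens) (hl : S.lettersOK D = true) (hp : D.PermFacts)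
    (hr : S.relsOK D = true) (r : FreeGroup Gen) :
    hom hgens hl hp hr (PresentedGroup.mk S.rels r) = ev (perm D hp) (S.wl D r) := by
  obtain ⟨h1, _⟩ := letters_spec hgens hl
  rw [← lift_eq_ev (S := S) (D := D) (fun x => perm D hp (S.sg x)) (perm D hp) (fun _ => rfl)
    (fun x => perm_inv hp (h1 x).1) r]
  refine DFunLike.congr_fun (FreeGroup.ext_hom (f := (hom hgens hl hp hr).comp (PresentedGroup.mk S.rels))
    (g := FreeGroup.lift fun x => perm D hp (S.sg x)) (fun x => ?_)) r
  show hom hgens hl hp hr (PresentedGroup.of x) = _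
  rw [← (h1 x).2.1, hom_el hgens hl hp hr (h1 x).1, FreeGroup.lift_apply_of]

theorem closure_el (hgens : ∀ x, x ∈ S.gens) (hl : S.lettersOK D = true) :
    Subgroup.closure (Set.range fun a : Fin D.k => S.el a) = ⊤ := by
  obtain ⟨h1, _⟩ := letters_spec hgens hl
  rw [eq_top_iff, ← PresentedGroup.closure_range_of S.rels, Subgroup.closure_le]
  rintro _ ⟨x, rfl⟩
  exact Subgroup.subset_closure ⟨⟨S.sg x, (h1 x).1⟩, (h1 x).2.1⟩

/-- The table is the action on the cosets of the subgroup generated by `hs`. -/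
theorem exists_equiv (hgens : ∀ x, x ∈ S.gens) (hl : S.lettersOK D = true) (hc : D.check = true)
    (hr : S.relsOK D = true) (hp : D.PermFacts) {hs : List (FreeGroup Gen)} (hsub : S.subOK D hs = true)
    {ext : List (List ℕ)} (hsrc : S.srcOK D hs ext = true) (H : Subgroup S.G)
    (hH : H = Subgroup.closure ((fun h => PresentedGroup.mk S.rels h) '' {h | h ∈ hs}))
    (hext : ∀ w ∈ ext, ev S.el w • ((1 : S.G) : S.G ⧸ H) = ((1 : S.G) : S.G ⧸ H)) :
    ∃ e : Fin D.n ≃ S.G ⧸ H, e ⟨0, hp.hn⟩ = ((1 : S.G) : S.G ⧸ H) ∧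
      ∀ g i, g • e i = e (hom hgens hl hp hr g i) := by
  have hmk := mk_eq_ev hgens hl
  have hsrc' := List.all_eq_true.mp hsrc
  set base : S.G ⧸ H := ((1 : S.G) : S.G ⧸ H) with hbase
  have hfix : ∀ g ∈ H, g • base = base := fun g hg => by
    rw [hbase]
    exact QuotientGroup.eq.mpr (by simpa using hg)
  obtain ⟨φ, hφ0, hφ⟩ := exists_phi hc S.el base (el_inv hgens hl)
    (fun w hw => by
      have h := hsrc' _ hw
      simp only [cond_true, List.contains_iff_mem, List.mem_append, List.mem_map, List.mem_range] at h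
      rcases h with ⟨r, hr', rfl⟩ | ⟨a, ha, rfl⟩
      · rw [← hmk r]
        exact PresentedGroup.one_of_mem (S.allRels_mem hr')
      · show (1 * S.el (D.invl a)) * S.el a = 1
        rw [one_mul, el_inv hgens hl a ha])
    (fun w hw => by
      have h := hsrc' _ hw
      simp only [cond_false, List.contains_iff_mem, List.mem_append, List.mem_map] at h
      rcases h with ⟨r, hr', rfl⟩ | h
      · rw [← hmk r]
        exact hfix _ (hH ▸ Subgroup.subset_closure ⟨r, hr', rfl⟩)
      · exact hext w h)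
  have ht : D.treeOK = true := by
    unfold Data.check at hc
    simp only [Bool.and_eq_true] at hc
    exact hc.2.1
  set ρ := hom hgens hl hp hr with hρ
  let ψ : Fin D.n → S.G ⧸ H := fun i => φ i
  have hψ : ∀ g i, g • ψ i = ψ (ρ g i) := by
    intro g
    have hg : g ∈ Subgroup.closure (Set.range fun a : Fin D.k => S.el a) := by rw [closure_el hgens hl]; trivial
    induction hg using Subgroup.closure_induction with
    | mem g hg =>
      obtain ⟨a, rfl⟩ := hg
      intro i
      show S.el a • φ i = φ (ρ (S.el a) i : ℕ)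
      rw [hρ, hom_el hgens hl hp hr a.2, perm_apply hp a.2]
      exact hφ a a.2 i i.2
    | one => intro i; simp
    | mul x y _ _ hx hy => intro i; rw [mul_smul, hy, hx, map_mul, Equiv.Perm.mul_apply]
    | inv x _ hx =>
      intro i
      rw [inv_smul_eq_iff, hx, map_inv]
      simp
  have hψ0 : ψ ⟨0, hp.hn⟩ = base := hφ0
  have hH0 : ∀ g ∈ H, ρ g ⟨0, hp.hn⟩ = ⟨0, hp.hn⟩ := by
    intro g hg
    rw [hH] at hg
    induction hg using Subgroup.closure_induction with
    | mem g hg =>
      obtain ⟨r, hr', rfl⟩ := hg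
      obtain ⟨hw, h0⟩ := fixes0_spec hp (List.all_eq_true.mp hsub r hr')
      rw [hρ, hom_mk]
      exact Fin.ext ((ev_perm hp _ hw _).trans h0)
    | one => simp
    | mul x y _ _ hx hy => rw [map_mul, Equiv.Perm.mul_apply, hy, hx]
    | inv x _ hx => rw [map_inv, Equiv.Perm.inv_eq_iff_eq]; exact hx.symm
  let χ : S.G ⧸ H → Fin D.n := Quotient.lift (fun g => ρ g ⟨0, hp.hn⟩) (by
    intro g g' hgg
    have hm : g⁻¹ * g' ∈ H := QuotientGroup.leftRel_apply.mp hgg
    have := congrArg (ρ g) (hH0 _ hm)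
    rw [← Equiv.Perm.mul_apply, ← map_mul, mul_inv_cancel_left] at this
    exact this.symm)
  have hr' : ∀ q, ψ (χ q) = q := by
    intro q
    induction q using QuotientGroup.induction_on with
    | H g =>
      show ψ (ρ g ⟨0, hp.hn⟩) = _
      rw [← hψ, hψ0, hbase]
      show ((g * 1 : S.G) : S.G ⧸ H) = _
      rw [mul_one]
  have hl' : ∀ i, χ (ψ i) = i := by
    intro i
    suffices h : ∃ g, ρ g ⟨0, hp.hn⟩ = i by
      obtain ⟨g, rfl⟩ := h
      rw [← hψ, hψ0, hbase]
      show ρ (g * 1) _ = _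
      rw [mul_one]
    have := tree_induction hp (treeFacts hp ht) (P := fun j => ∃ g, (ρ g ⟨0, hp.hn⟩ : ℕ) = j)
      ⟨1, by simp⟩ (fun a ha j hj => by
        rintro ⟨g, hg⟩
        refine ⟨S.el a * g, ?_⟩
        rw [map_mul, Equiv.Perm.mul_apply, hρ, hom_el hgens hl hp hr ha, perm_apply hp ha, ← hρ, hg]) i i.2
    obtain ⟨g, hg⟩ := this
    exact ⟨g, Fin.ext hg⟩
  exact ⟨⟨ψ, χ, hl', hr'⟩, hψ0, hψ⟩

theorem index_eq (hgens : ∀ x, x ∈ S.gens) (hl : S.lettersOK D = true) (hc : D.check = true)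
    (hr : S.relsOK D = true) {hs : List (FreeGroup Gen)} (hsub : S.subOK D hs = true)
    {ext : List (List ℕ)} (hsrc : S.srcOK D hs ext = true) (H : Subgroup S.G)
    (hH : H = Subgroup.closure ((fun h => PresentedGroup.mk S.rels h) '' {h | h ∈ hs}))
    (hext : ∀ w ∈ ext, ev S.el w • ((1 : S.G) : S.G ⧸ H) = ((1 : S.G) : S.G ⧸ H)) : H.index = D.n := by
  have hp : D.PermFacts := permFacts (by
    unfold Data.check at hc
    simp only [Bool.and_eq_true] at hc
    exact hc.1)
  obtain ⟨e, _, _⟩ := exists_equiv hgens hl hc hr hp hsub hsrc H hH hext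
  rw [Subgroup.index, ← Nat.card_congr e, Nat.card_fin]

end Setup

end Cfsg.Agent.CosetEnum
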