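/-
Scalar Todd-Coxeter derivations.  A derivation is a list of facts `el a • φ x = φ y` (letter `k` is the
identity), each one a definition or the conclusion of a closed chain of earlier facts around a relator
(or around a subgroup word at node 0).
Main result: `Deriv.target_fixes`: the word traced by the derivation fixes the base point.
-/
import Cfsg.Agent.Lib.CosetEnum.Check

set_option autoImplicit false

namespace Cfsg.Agent.CosetEnum

/-- A derivation. The vectors are given by lookup functions (`lane W` of a packed number, or `chunkGet`). -/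
structure Deriv where
  W : ℕ
  k : ℕ
  inv : List ℕ
  nfacts : ℕ
  X : ℕ → ℕ
  A : ℕ → ℕ
  Y : ℕ → ℕ
  segs : ℕ → ℕ
  off : ℕ → ℕ
  kind : ℕ → ℕ
  defOf : ℕ → ℕ
  rels : List (List ℕ)
  subs : List (List ℕ)
  tgtOff : ℕ
  tgtLen : ℕ
  tgt : List ℕ

/-- Lookup in a vector cut into packed chunks of `2 ^ 9` lanes. -/
noncomputable def chunkGet (W : ℕ) (t : ℕ → ℕ) (i : ℕ) : ℕ :=
  force (Nat.shiftRight i 9) fun q => force (t q) fun c => lane W c (Nat.land i 511)

namespace Deriv

variable (D : Deriv)

noncomputable def fx (i : ℕ) : ℕ := D.X i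
noncomputable def fa (i : ℕ) : ℕ := D.A i
noncomputable def fy (i : ℕ) : ℕ := D.Y i
noncomputable def invl (a : ℕ) : ℕ := bif Nat.beq a D.k then a else D.inv.getD a 0

/-- The oriented segment coded by `s = 2 * fact + orientation`. -/
noncomputable def src (s : ℕ) : ℕ := bif Nat.beq (Nat.mod s 2) 0 then D.fx (Nat.div s 2) else D.fy (Nat.div s 2)
noncomputable def dst (s : ℕ) : ℕ := bif Nat.beq (Nat.mod s 2) 0 then D.fy (Nat.div s 2) else D.fx (Nat.div s 2)
noncomputable def let' (s : ℕ) : ℕ :=
  bif Nat.beq (Nat.mod s 2) 0 then D.fa (Nat.div s 2) else D.invl (D.fa (Nat.div s 2))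

/-- Walk along `L` segments starting at position `o`. `cur` is the present node, `w` the letters so far
(latest first), `found` counts occurrences of fact `i` (the conclusion); all others must be earlier facts.
The continuation receives the final node, the letters and the count. -/
noncomputable def walk (i : ℕ) : ℕ → ℕ → ℕ → List ℕ → ℕ → (ℕ → List ℕ → ℕ → Bool) → Bool := fun L =>
  Nat.rec (motive := fun _ => ℕ → ℕ → List ℕ → ℕ → (ℕ → List ℕ → ℕ → Bool) → Bool)
    (fun _ cur w found K => K cur w found)
    (fun _ ih o cur w found K =>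
      force (D.segs o) fun s =>
      force (Nat.div s 2) fun f =>
      Nat.beq (D.src s) cur && ((Nat.blt f i || Nat.beq f i) &&
        force (D.let' s) fun a =>
        force (D.dst s) fun y =>
        force (bif Nat.beq f i then Nat.succ found else found) fun found =>
        ih (Nat.succ o) y (bif Nat.beq a D.k then w else a :: w) found K)) L

/-- Check fact `i`. -/
noncomputable def factOK (i : ℕ) : Bool :=
  force (D.kind i) fun kd =>
  force (D.off i) fun o =>
  force (Nat.sub (D.off (Nat.succ i)) o) fun L =>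
  bif Nat.beq kd 0 then
    Nat.blt (D.fx i) (D.fy i) && (Nat.blt (D.fa i) D.k && Nat.beq (D.defOf (D.fy i)) i)
  else
    (Nat.blt (D.fa i) D.k || Nat.beq (D.fa i) D.k) &&
    force (D.src (D.segs o)) fun st =>
    D.walk i L o st [] 0 fun cur w found =>
      Nat.beq cur st && (Nat.beq found 1 &&
        (bif Nat.ble kd D.rels.length then decide (w = (D.rels.getD (kd - 1) []).reverse)
         else Nat.beq st 0 && decide (w = (D.subs.getD (kd - 1 - D.rels.length) []).reverse)))

noncomputable def allRange (p : ℕ → Bool) : ℕ → ℕ → ℕ → Bool := fun d =>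
  Nat.rec (motive := fun _ => ℕ → ℕ → Bool) (fun lo hi => Nat.ble hi lo || p lo)
    (fun _ ih lo hi => Nat.ble hi lo || force (Nat.div (Nat.add lo hi) 2) fun mid => ih lo mid && ih mid hi) d

noncomputable def invOK : Bool :=
  (List.range D.k).all fun a => Nat.blt (D.invl a) D.k && Nat.beq (D.invl (D.invl a)) a

noncomputable def check : Bool :=
  D.invOK && (allRange D.factOK 20 0 D.nfacts && (Nat.blt D.nfacts 1048576 && (Nat.ble (D.fa D.nfacts) D.k &&
    D.walk D.nfacts D.tgtLen D.tgtOff 0 [] 0 fun cur w found =>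
      Nat.beq cur 0 && (Nat.beq found 0 && decide (w = D.tgt.reverse)))))

theorem allRange_spec {p : ℕ → Bool} : ∀ {d lo hi : ℕ}, hi ≤ lo + 2 ^ d → allRange p d lo hi = true →
    ∀ i, lo ≤ i → i < hi → p i = true
  | 0, lo, hi, hd, h, i, h1, h2 => by
    change (Nat.ble hi lo || p lo) = true at h
    simp only [pow_zero] at hd
    simp only [Bool.or_eq_true, Nat.ble_eq] at h
    rcases h with h | h
    · omega
    · have : i = lo := by omega
      rw [this]; exact h
  | d + 1, lo, hi, hd, h, i, h1, h2 => by
    change (Nat.ble hi lo || force ((lo + hi) / 2) fun mid =>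
      allRange p d lo mid && allRange p d mid hi) = true at h
    rw [force_eq] at h
    simp only [Bool.or_eq_true, Bool.and_eq_true, Nat.ble_eq] at h
    rcases h with h | ⟨hl, hr⟩
    · omega
    · rw [pow_succ] at hd
      by_cases hm : i < (lo + hi) / 2
      · exact allRange_spec (by omega) hl i h1 hm
      · exact allRange_spec (by omega) hr i (by omega) h2

variable {D}

variable {G X : Type*} [Group G] [MulAction G X]

/-- `el` extended by the identity at letter `k`. -/
def elx (D : Deriv) (el : ℕ → G) (a : ℕ) : G := if a < D.k then el a else 1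

/-- Product of letters, latest first. -/
def evr (el : ℕ → G) : List ℕ → G
  | [] => 1
  | a :: t => el a * evr el t

theorem evr_eq_ev (el : ℕ → G) : ∀ w : List ℕ, evr el w = Data.ev el w.reverse
  | [] => rfl
  | a :: t => by
    rw [List.reverse_cons, Data.ev_append]
    show el a * evr el t = (1 * el a) * Data.ev el t.reverse
    rw [one_mul, evr_eq_ev el t]

/-- Fact `i` holds. -/
def Holds (D : Deriv) (el : ℕ → G) (φ : ℕ → X) (i : ℕ) : Prop :=
  D.elx el (D.fa i) • φ (D.fx i) = φ (D.fy i)

/-- Invariant of a walk. -/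
def WInv (D : Deriv) (el : ℕ → G) (φ : ℕ → X) (i st cur : ℕ) (w : List ℕ) (found : ℕ) : Prop :=
  (found = 0 → evr el w • φ st = φ cur) ∧
  (found = 1 → ∃ g h : G, evr el w = h * D.elx el (D.fa i) * g ∧ g • φ st = φ (D.fx i) ∧ h • φ (D.fy i) = φ cur ∨
    evr el w = h * (D.elx el (D.fa i))⁻¹ * g ∧ g • φ st = φ (D.fy i) ∧ h • φ (D.fx i) = φ cur)

theorem elx_let {el : ℕ → G} (hinv : ∀ a < D.k, D.invl a < D.k ∧ el (D.invl a) * el a = 1) {a : ℕ}
    (ha : a ≤ D.k) : D.elx el (D.invl a) = (D.elx el a)⁻¹ ∧ D.invl a ≤ D.k := by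
  rcases Nat.lt_or_eq_of_le ha with h | h
  · obtain ⟨h1, h2⟩ := hinv a h
    exact ⟨by rw [elx, if_pos h1, elx, if_pos h]; exact eq_inv_of_mul_eq_one_left h2, h1.le⟩
  · subst h
    have : D.invl D.k = D.k := by simp [invl]
    exact ⟨by rw [this, elx, if_neg (lt_irrefl _), inv_one], this.le⟩

theorem walk_spec (el : ℕ → G) (φ : ℕ → X) (hinv : ∀ a < D.k, D.invl a < D.k ∧ el (D.invl a) * el a = 1)
    {i : ℕ} (hA : ∀ j < i, D.fa j ≤ D.k) (hAi : D.fa i ≤ D.k) (hlow : ∀ j < i, Holds D el φ j) (st : ℕ)
    (K : ℕ → List ℕ → ℕ → Bool) :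
    ∀ (L o cur : ℕ) (w : List ℕ) (found : ℕ), WInv D el φ i st cur w found →
      D.walk i L o cur w found K = true →
      ∃ cur' w' found', WInv D el φ i st cur' w' found' ∧ K cur' w' found' = true
  | 0, _, cur, w, found, hI, h => ⟨cur, w, found, hI, h⟩
  | L + 1, o, cur, w, found, hI, h => by
    change force (D.segs o) (fun s => force (s / 2) fun f =>
      Nat.beq (D.src s) cur && ((Nat.blt f i || Nat.beq f i) &&
        force (D.let' s) fun a => force (D.dst s) fun y =>
        force (bif Nat.beq f i then found + 1 else found) fun found =>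
        D.walk i L (o + 1) y (bif Nat.beq a D.k then w else a :: w) found K)) = true at h
    simp only [force_eq, Bool.and_eq_true, Bool.or_eq_true, beq_iff, Nat.blt_eq] at h
    set s := D.segs o
    obtain ⟨hsrc, hf, hrec⟩ := h
    refine walk_spec el φ hinv hA hAi hlow st K L (o + 1) _ _ _ ?_ hrec
    -- the letter
    have hfa : D.fa (s / 2) ≤ D.k := by
      rcases hf with hf | hf
      · exact hA _ hf
      · rw [hf]; exact hAi
    have hw : ∀ a, a ≤ D.k → evr el (bif Nat.beq a D.k then w else a :: w) = D.elx el a * evr el w := by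
      intro a ha
      by_cases hak : a = D.k
      · subst hak
        simp [elx]
      · have : Nat.beq a D.k = false := by
          cases hb : Nat.beq a D.k
          · rfl
          · exact absurd (Nat.eq_of_beq_eq_true hb) hak
        rw [this]
        show el a * evr el w = _
        rw [elx, if_pos (by omega)]
    obtain ⟨hinvx, hinvle⟩ := elx_let hinv hfa
    have hfwd : (Nat.mod s 2 = 0 ∧ D.src s = D.fx (s / 2) ∧ D.dst s = D.fy (s / 2) ∧
          D.elx el (D.let' s) = D.elx el (D.fa (s / 2)) ∧ D.let' s ≤ D.k) ∨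
        (Nat.mod s 2 ≠ 0 ∧ D.src s = D.fy (s / 2) ∧ D.dst s = D.fx (s / 2) ∧
          D.elx el (D.let' s) = (D.elx el (D.fa (s / 2)))⁻¹ ∧ D.let' s ≤ D.k) := by
      cases hb : Nat.beq (Nat.mod s 2) 0
      · refine Or.inr ⟨fun h => ?_, ?_⟩
        · rw [h] at hb; simp at hb
        · have h1 : D.let' s = D.invl (D.fa (s / 2)) := by
            show (bif Nat.beq (Nat.mod s 2) 0 then D.fa (Nat.div s 2) else D.invl (D.fa (Nat.div s 2))) = _
            rw [hb]; rfl
          refine ⟨?_, ?_, by rw [h1]; exact hinvx, by rw [h1]; exact hinvle⟩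
          · show (bif Nat.beq (Nat.mod s 2) 0 then D.fx (Nat.div s 2) else D.fy (Nat.div s 2)) = _
            rw [hb]; rfl
          · show (bif Nat.beq (Nat.mod s 2) 0 then D.fy (Nat.div s 2) else D.fx (Nat.div s 2)) = _
            rw [hb]; rfl
      · refine Or.inl ⟨Nat.eq_of_beq_eq_true hb, ?_⟩
        have h1 : D.let' s = D.fa (s / 2) := by
          show (bif Nat.beq (Nat.mod s 2) 0 then D.fa (Nat.div s 2) else D.invl (D.fa (Nat.div s 2))) = _
          rw [hb]; rfl
        refine ⟨?_, ?_, by rw [h1], by rw [h1]; exact hfa⟩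
        · show (bif Nat.beq (Nat.mod s 2) 0 then D.fx (Nat.div s 2) else D.fy (Nat.div s 2)) = _
          rw [hb]; rfl
        · show (bif Nat.beq (Nat.mod s 2) 0 then D.fy (Nat.div s 2) else D.fx (Nat.div s 2)) = _
          rw [hb]; rfl
    have hev : evr el (bif Nat.beq (D.let' s) D.k then w else D.let' s :: w) = D.elx el (D.let' s) * evr el w := by
      rcases hfwd with h | h <;> exact hw _ h.2.2.2.2
    by_cases hfi : s / 2 = i
    · have hb : Nat.beq (s / 2) i = true := by rw [hfi]; exact Nat.beq_refl i
      rw [hb]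
      refine ⟨fun h => absurd h (Nat.succ_ne_zero found), fun h1 => ?_⟩
      have h0 : found = 0 := by
        simp only [cond_true] at h1
        omega
      refine ⟨evr el w, 1, ?_⟩
      rcases hfwd with ⟨_, e1, e2, e3, _⟩ | ⟨_, e1, e2, e3, _⟩
      · refine Or.inl ⟨?_, ?_, ?_⟩
        · rw [hev, e3, one_mul, hfi]
        · rw [hI.1 h0, ← hsrc, e1, hfi]
        · rw [one_smul, e2, hfi]
      · refine Or.inr ⟨?_, ?_, ?_⟩
        · rw [hev, e3, one_mul, hfi]
        · rw [hI.1 h0, ← hsrc, e1, hfi]
        · rw [one_smul, e2, hfi]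
    · have hb : Nat.beq (s / 2) i = false := by
        cases hb : Nat.beq (s / 2) i
        · rfl
        · exact absurd (Nat.eq_of_beq_eq_true hb) hfi
      rw [hb]
      have hlt : s / 2 < i := by
        rcases hf with hf | hf
        · exact hf
        · exact absurd hf hfi
      have hstep : D.elx el (D.let' s) • φ cur = φ (D.dst s) := by
        have hh : D.elx el (D.fa (s / 2)) • φ (D.fx (s / 2)) = φ (D.fy (s / 2)) := hlow _ hlt
        rcases hfwd with ⟨_, e1, e2, e3, _⟩ | ⟨_, e1, e2, e3, _⟩
        · rw [← hsrc, e1, e2, e3, hh]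
        · rw [← hsrc, e1, e2, e3, ← hh, inv_smul_smul]
      refine ⟨fun h0 => ?_, fun h1 => ?_⟩
      · rw [hev, mul_smul, hI.1 h0, hstep]
      · obtain ⟨g, h, hh⟩ := hI.2 h1
        refine ⟨g, D.elx el (D.let' s) * h, ?_⟩
        rcases hh with ⟨a1, a2, a3⟩ | ⟨a1, a2, a3⟩
        · exact Or.inl ⟨by rw [hev, a1]; simp [mul_assoc], a2, by rw [mul_smul, a3, hstep]⟩
        · exact Or.inr ⟨by rw [hev, a1]; simp [mul_assoc], a2, by rw [mul_smul, a3, hstep]⟩

theorem getD_mem_or {α : Type*} (l : List α) (j : ℕ) (d : α) : l.getD j d ∈ l ∨ l.getD j d = d := by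
  rw [List.getD_eq_getElem?_getD]
  cases h : l[j]? with
  | none => exact Or.inr rfl
  | some x => exact Or.inl (List.mem_of_getElem? h)

/-- The target word fixes the base point. -/
theorem target_fixes (hc : D.check = true) (el : ℕ → G) (base : X)
    (hinv : ∀ a < D.k, el (D.invl a) * el a = 1)
    (hrel : ∀ w ∈ D.rels, Data.ev el w = 1) (hsub : ∀ w ∈ D.subs, Data.ev el w • base = base) :
    Data.ev el D.tgt • base = base := by
  unfold check at hc
  simp only [Bool.and_eq_true, Nat.blt_eq, Nat.ble_eq] at hc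
  obtain ⟨hi, hall, hn, hA, htgt⟩ := hc
  simp only [invOK, List.all_eq_true, List.mem_range, Bool.and_eq_true, Nat.blt_eq] at hi
  have hinv' : ∀ a < D.k, D.invl a < D.k ∧ el (D.invl a) * el a = 1 := fun a ha => ⟨(hi a ha).1, hinv a ha⟩
  have hall' : ∀ i < D.nfacts, D.factOK i = true := fun i h =>
    allRange_spec (by norm_num at hn ⊢; omega) hall i (Nat.zero_le i) h
  classical
  -- nodes
  let φ : ℕ → X := (measure id).wf.fix fun y rec =>
    if h : D.fx (D.defOf y) < y then el (D.fa (D.defOf y)) • rec _ h else base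
  have hφ : ∀ y, φ y = if D.fx (D.defOf y) < y then
      el (D.fa (D.defOf y)) • φ (D.fx (D.defOf y)) else base := by
    intro y
    show (measure id).wf.fix _ y = _
    rw [WellFounded.fix_eq]
    split <;> rfl
  have hφ0 : φ 0 = base := by rw [hφ, if_neg (Nat.not_lt_zero _)]
  have key : ∀ i < D.nfacts, D.fa i ≤ D.k ∧ Holds D el φ i := by
    intro i
    induction i using Nat.strong_induction_on with
    | _ i ih =>
      intro hlt
      have hok := hall' i hlt
      unfold factOK at hok
      simp only [force_eq] at hok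
      set kd := D.kind i
      cases hkd : Nat.beq kd 0
      · rw [hkd] at hok
        simp only [cond_false, Bool.and_eq_true, Bool.or_eq_true, Nat.blt_eq, beq_iff] at hok
        obtain ⟨hA, hw⟩ := hok
        have hAi : D.fa i ≤ D.k := by omega
        refine ⟨hAi, ?_⟩
        set st := D.src (D.segs (D.off i))
        obtain ⟨cur, w, found, hI, hK⟩ := walk_spec el φ hinv' (fun j hj => (ih j hj (hj.trans hlt)).1) hAi
          (fun j hj => (ih j hj (hj.trans hlt)).2) st _ _ _ _ _ _
          ⟨fun _ => by simp [evr], fun h => absurd h (by omega)⟩ hw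
        simp only [Bool.and_eq_true, beq_iff] at hK
        obtain ⟨rfl, rfl, hK⟩ := hK
        have hone : evr el w • φ st = φ st := by
          cases hle : Nat.ble kd D.rels.length
          · rw [hle] at hK
            simp only [cond_false, Bool.and_eq_true, beq_iff, decide_eq_true_eq] at hK
            obtain ⟨hst, rfl⟩ := hK
            rw [evr_eq_ev, List.reverse_reverse, hst, hφ0]
            rcases getD_mem_or D.subs (kd - 1 - D.rels.length) [] with h | h
            · exact hsub _ h
            · rw [h]; exact one_smul _ _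
          · rw [hle] at hK
            simp only [cond_true, decide_eq_true_eq] at hK
            subst hK
            rw [evr_eq_ev, List.reverse_reverse]
            rcases getD_mem_or D.rels (kd - 1) [] with h | h
            · rw [hrel _ h, one_smul]
            · rw [h]; exact one_smul _ _
        obtain ⟨g, h, hh⟩ := hI.2 rfl
        rcases hh with ⟨a1, a2, a3⟩ | ⟨a1, a2, a3⟩
        · show D.elx el (D.fa i) • φ (D.fx i) = φ (D.fy i)
          rw [a1, mul_smul, mul_smul, a2, ← a3] at hone
          exact smul_left_cancel _ (hone.trans (by rw [a3]))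
        · show D.elx el (D.fa i) • φ (D.fx i) = φ (D.fy i)
          rw [a1, mul_smul, mul_smul, a2] at hone
          have := smul_left_cancel _ (hone.trans a3.symm)
          rw [← this, smul_inv_smul]
      · rw [hkd] at hok
        simp only [cond_true, Bool.and_eq_true, Nat.blt_eq, beq_iff] at hok
        obtain ⟨h1, h2, h3⟩ := hok
        refine ⟨h2.le, ?_⟩
        show D.elx el (D.fa i) • φ (D.fx i) = φ (D.fy i)
        rw [elx, if_pos h2, hφ (D.fy i), h3, if_pos h1]
  have hAn : ∀ j < D.nfacts, D.fa j ≤ D.k := fun j hj => (key j hj).1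
  -- the final walk
  obtain ⟨cur, w, found, hI, hK⟩ := walk_spec el φ hinv' hAn hA (fun j hj => (key j hj).2) 0 _ _ _ _ _ _
    ⟨fun _ => by simp [evr], fun h => absurd h (by omega)⟩ htgt
  simp only [Bool.and_eq_true, beq_iff, decide_eq_true_eq] at hK
  obtain ⟨rfl, rfl, rfl⟩ := hK
  have := hI.1 rfl
  rwa [evr_eq_ev, List.reverse_reverse, hφ0] at this

end Deriv

end Cfsg.Agent.CosetEnum
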