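/-
Group orders and orbit sizes from coset table certificates.
Main results: `Setup.card_step` (upper bound along a chain of letter subgroups), `Setup.card_top`,
`Setup.le_card` (lower bound from a chain of orbits), `Setup.injective_hom`, `Setup.orbit_ncard`.
-/
import Cfsg.Agent.Lib.CosetEnum.Pres
import Cfsg.Agent.Lib.CosetEnum.Orbit
import Cfsg.Agent.Lib.CosetEnum.Seed

set_option autoImplicit false

namespace Cfsg.Agent.CosetEnum

open Data

/-- Data that only records the letters. -/
def letterData (k : ℕ) (inv : List ℕ) : Data where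
  B := 0
  lg := 0
  n := 0
  k := k
  inv := inv
  nets := []
  ranks := []
  sels := []
  depth := 0
  loops := []

namespace Setup

variable {Gen : Type} [DecidableEq Gen] {S : Setup Gen} {D0 D : Data}

/-- The subgroup generated by a list of words. -/
def closureOf (S : Setup Gen) (hs : List (FreeGroup Gen)) : Subgroup S.G :=
  Subgroup.closure ((fun h => PresentedGroup.mk S.rels h) '' {h | h ∈ hs})

/-- The subgroup generated by some letters. -/
def letterGroup (S : Setup Gen) (emb : List ℕ) : Subgroup S.G :=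
  Subgroup.closure (S.el '' {a | a ∈ emb})

/-- The letter map is compatible with inverses. -/
noncomputable def embOK (D0 D : Data) (emb : List ℕ) : Bool :=
  Nat.beq emb.length D.k && (List.range D.k).all fun a =>
    Nat.blt (emb.getD a 0) D0.k && Nat.beq (emb.getD (D.invl a) 0) (D0.invl (emb.getD a 0))

/-- Every loop of the certificate is a relator, an inverse pair, a subgroup word or an extra word. -/
noncomputable def embSrcOK (S : Setup Gen) (D0 D : Data) (emb : List ℕ) (hs : List (FreeGroup Gen))
    (ext xrel : List (List ℕ)) : Bool :=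
  D.loops.all fun p =>
    bif p.1 then
      xrel.contains p.2 || (S.allRels.map (S.wl D0)).contains (p.2.map fun a => emb.getD a 0) ||
        ((List.range D.k).map fun a => [a, D.invl a]).contains p.2
    else (hs.map (S.wl D0)).contains (p.2.map fun a => emb.getD a 0) || ext.contains p.2

/-- All letters of the words lie in `emb`. -/
noncomputable def wordsIn (S : Setup Gen) (D0 : Data) (emb : List ℕ) (hs : List (FreeGroup Gen)) : Bool :=
  hs.all fun h => (S.wl D0 h).all fun a => emb.contains a

theorem ev_map (el : ℕ → S.G) (g : ℕ → ℕ) : ∀ w : List ℕ, ev el (w.map g) = ev (fun a => el (g a)) w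
  | [] => rfl
  | a :: v => by
    show ev el (v.map g) * el (g a) = ev (fun a => el (g a)) v * el (g a)
    rw [ev_map el g v]

theorem ev_mem {M : Type*} [Group M] (el : ℕ → M) (P : Subgroup M) :
    ∀ w : List ℕ, (∀ a ∈ w, el a ∈ P) → ev el w ∈ P
  | [], _ => P.one_mem
  | a :: v, h => P.mul_mem (ev_mem el P v fun b hb => h b (List.mem_cons_of_mem a hb)) (h a List.mem_cons_self)

theorem closureOf_nil (S : Setup Gen) : S.closureOf [] = ⊥ := by
  simp [closureOf]

theorem closureOf_le (hgens : ∀ x, x ∈ S.gens) (hl : S.lettersOK D0 = true) {emb : List ℕ}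
    {hs : List (FreeGroup Gen)} (h : S.wordsIn D0 emb hs = true) : S.closureOf hs ≤ S.letterGroup emb := by
  rw [closureOf, Subgroup.closure_le]
  rintro _ ⟨r, hr, rfl⟩
  show PresentedGroup.mk S.rels r ∈ S.letterGroup emb
  rw [mk_eq_ev hgens hl]
  refine ev_mem _ _ _ fun a ha => Subgroup.subset_closure ⟨a, ?_, rfl⟩
  have := List.all_eq_true.mp (List.all_eq_true.mp h r hr) a ha
  simpa using this

/-- A derivation proves that a word fixes the base coset. -/
theorem deriv_fixes (hgens : ∀ x, x ∈ S.gens) (hl : S.lettersOK D0 = true) (hs : List (FreeGroup Gen))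
    (T : Deriv) (hT : T.check = true) (emb : List ℕ)
    (hinv : ((List.range T.k).all fun a => Nat.blt (emb.getD a 0) D0.k &&
      Nat.beq (emb.getD (T.invl a) 0) (D0.invl (emb.getD a 0))) = true)
    (hrel : (T.rels.all fun w => (S.allRels.map (S.wl D0)).contains (w.map fun a => emb.getD a 0) ||
      ([] :: (List.range T.k).map fun a => [a, T.invl a]).contains w) = true)
    (ext : List (List ℕ))
    (hext : ∀ w ∈ ext, ev (fun a => S.el (emb.getD a 0)) w • ((1 : S.G) : S.G ⧸ S.closureOf hs)
      = ((1 : S.G) : S.G ⧸ S.closureOf hs))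
    (hsub : (T.subs.all fun w => ext.contains w ||
      (hs.map (S.wl D0)).contains (w.map fun a => emb.getD a 0)) = true) :
    ev (fun a => S.el (emb.getD a 0)) T.tgt • ((1 : S.G) : S.G ⧸ S.closureOf hs)
      = ((1 : S.G) : S.G ⧸ S.closureOf hs) := by
  have hmk := mk_eq_ev hgens hl
  have hinv' : ∀ a < T.k, emb.getD a 0 < D0.k ∧ emb.getD (T.invl a) 0 = D0.invl (emb.getD a 0) := fun a ha => by
    have := List.all_eq_true.mp hinv a (List.mem_range.mpr ha)
    simpa [Bool.and_eq_true] using this
  have hel : ∀ a < T.k, S.el (emb.getD (T.invl a) 0) * S.el (emb.getD a 0) = 1 := fun a ha => by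
    rw [(hinv' a ha).2]; exact el_inv hgens hl _ (hinv' a ha).1
  refine Deriv.target_fixes hT _ _ hel (fun w hw => ?_) (fun w hw => ?_)
  · have h := List.all_eq_true.mp hrel w hw
    simp only [Bool.or_eq_true, List.contains_iff_mem, List.mem_cons, List.mem_map, List.mem_range] at h
    rcases h with ⟨r, hr, e⟩ | rfl | ⟨a, ha, rfl⟩
    rotate_left
    · rfl
    rotate_left
    · rw [← ev_map S.el (fun a => emb.getD a 0) w, ← e, ← hmk r]
      exact PresentedGroup.one_of_mem (S.allRels_mem hr)
    · show (1 * S.el (emb.getD (T.invl a) 0)) * S.el (emb.getD a 0) = 1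
      rw [one_mul, hel a ha]
  · have h := List.all_eq_true.mp hsub w hw
    simp only [Bool.or_eq_true, List.contains_iff_mem, List.mem_map] at h
    rcases h with hx | ⟨r, hr, e⟩
    · exact hext w hx
    rw [← ev_map S.el (fun a => emb.getD a 0) w, ← e, ← hmk r]
    exact QuotientGroup.eq.mpr (by simpa [closureOf] using (Subgroup.subset_closure ⟨r, hr, rfl⟩ : PresentedGroup.mk S.rels r ∈ S.closureOf hs))

/-- One step of an upper bound chain. -/
theorem card_step (hgens : ∀ x, x ∈ S.gens) (hl : S.lettersOK D0 = true) (D : Data) (hc : D.check = true)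
    (emb : List ℕ) (hemb : embOK D0 D emb = true) (hs : List (FreeGroup Gen)) (ext : List (List ℕ))
    (xrel : List (List ℕ)) (hsrc : S.embSrcOK D0 D emb hs ext xrel = true) (hin : S.wordsIn D0 emb hs = true)
    (hxrel : ∀ w ∈ xrel, ev (fun a => S.el (emb.getD a 0)) w = 1)
    (hext : ∀ w ∈ ext, ev (fun a => S.el (emb.getD a 0)) w • ((1 : S.G) : S.G ⧸ S.closureOf hs)
      = ((1 : S.G) : S.G ⧸ S.closureOf hs))
    {c : ℕ} (hK : Nat.card (S.closureOf hs) ≤ c ∧ Nat.card (S.closureOf hs) ≠ 0) :
    Nat.card (S.letterGroup emb) ≤ D.n * c ∧ Nat.card (S.letterGroup emb) ≠ 0 := by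
  have hmk := mk_eq_ev hgens hl
  simp only [embOK, Bool.and_eq_true, beq_iff, List.all_eq_true, List.mem_range, Nat.blt_eq] at hemb
  obtain ⟨hlen, hemb⟩ := hemb
  set K := S.closureOf hs with hKdef
  set H := S.letterGroup emb with hHdef
  set base : S.G ⧸ K := ((1 : S.G) : S.G ⧸ K) with hbase
  have hKH : K ≤ H := closureOf_le hgens hl hin
  have hfix : ∀ g ∈ K, g • base = base := fun g hg => QuotientGroup.eq.mpr (by simpa using hg)
  let el' : ℕ → S.G := fun a => S.el (emb.getD a 0)
  have hel : ∀ a < D.k, el' (D.invl a) * el' a = 1 := fun a ha => by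
    show S.el _ * S.el _ = 1
    rw [(hemb a ha).2]; exact el_inv hgens hl _ (hemb a ha).1
  have hperm : D.permOK = true ∧ D.treeOK = true := by
    unfold Data.check at hc
    simp only [Bool.and_eq_true] at hc
    exact ⟨hc.1, hc.2.1⟩
  have hp := permFacts hperm.1
  have hsrc' := List.all_eq_true.mp hsrc
  obtain ⟨φ, hφ0, hφ⟩ := exists_phi hc el' base hel
    (fun w hw => by
      have h := hsrc' _ hw
      simp only [cond_true, Bool.or_eq_true, List.contains_iff_mem, List.mem_map, List.mem_range] at h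
      rcases h with (hx | ⟨r, hr, e⟩) | ⟨a, ha, rfl⟩
      · exact hxrel w hx
      · show ev (fun a => S.el (emb.getD a 0)) w = 1
        rw [← ev_map S.el (fun a => emb.getD a 0) w, ← e, ← hmk r]
        exact PresentedGroup.one_of_mem (S.allRels_mem hr)
      · show (1 * el' (D.invl a)) * el' a = 1
        rw [one_mul, hel a ha])
    (fun w hw => by
      have h := hsrc' _ hw
      simp only [cond_false, Bool.or_eq_true, List.contains_iff_mem, List.mem_map] at h
      rcases h with ⟨r, hr, e⟩ | h
      · show ev (fun a => S.el (emb.getD a 0)) w • base = base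
        rw [← ev_map S.el (fun a => emb.getD a 0) w, ← e, ← hmk r]
        exact hfix _ (Subgroup.subset_closure ⟨r, hr, rfl⟩)
      · exact hext w h)
  have horb : ∀ g ∈ H, ∀ i : Fin D.n, (∃ j : Fin D.n, g • φ i = φ j) ∧ ∃ j : Fin D.n, g⁻¹ • φ i = φ j := by
    intro g hg
    rw [hHdef, letterGroup] at hg
    induction hg using Subgroup.closure_induction with
    | mem g hg =>
      obtain ⟨b, hb, rfl⟩ := hg
      obtain ⟨a, ha, rfl⟩ := List.getElem_of_mem hb
      have hak : a < D.k := hlen ▸ ha
      have he : el' a = S.el emb[a] := by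
        show S.el (emb.getD a 0) = _
        rw [List.getD_eq_getElem?_getD, List.getElem?_eq_getElem ha]; rfl
      intro i
      refine ⟨⟨⟨_, hp.act_lt_n a hak i i.2⟩, by rw [← he]; exact hφ a hak i i.2⟩, ?_⟩
      refine ⟨⟨_, hp.act_lt_n _ (hp.inv_lt a hak) i i.2⟩, ?_⟩
      rw [← he, ← eq_inv_of_mul_eq_one_left (hel a hak)]
      exact hφ _ (hp.inv_lt a hak) i i.2
    | one => intro i; exact ⟨⟨i, one_smul _ _⟩, ⟨i, by simp⟩⟩
    | mul x y _ _ hx hy =>
      intro i
      obtain ⟨j, hj⟩ := (hy i).1
      obtain ⟨j', hj'⟩ := (hx i).2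
      obtain ⟨l, hl⟩ := (hx j).1
      obtain ⟨l', hl'⟩ := (hy j').2
      exact ⟨⟨l, by rw [mul_smul, hj, hl]⟩, ⟨l', by rw [mul_inv_rev, mul_smul, hj', hl']⟩⟩
    | inv x _ hx => intro i; exact ⟨(hx i).2, by simpa using (hx i).1⟩
  -- H / (K in H) injects into the table
  have hn0 : 0 < D.n := hp.hn
  have hchoose : ∀ g : H, ∃ j : Fin D.n, (g : S.G) • base = φ j := fun g => by
    obtain ⟨j, hj⟩ := (horb g g.2 ⟨0, hn0⟩).1
    exact ⟨j, by rw [← hφ0]; exact hj⟩
  let f : H ⧸ K.subgroupOf H → Fin D.n := fun q => (hchoose q.out).choose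
  have hfinj : Function.Injective f := by
    intro q q' h
    have e1 := (hchoose q.out).choose_spec
    have e2 := (hchoose q'.out).choose_spec
    have : ((q.out : H) : S.G) • base = ((q'.out : H) : S.G) • base := by
      rw [e1, e2]; exact congrArg (fun j : Fin D.n => φ j) h
    have hm := QuotientGroup.eq.mp this
    rw [← QuotientGroup.out_eq' q, ← QuotientGroup.out_eq' q']
    refine QuotientGroup.eq.mpr ?_
    simpa [Subgroup.mem_subgroupOf] using hm
  haveI : Finite (H ⧸ K.subgroupOf H) := Finite.of_injective f hfinj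
  have hidx : (K.subgroupOf H).index ≤ D.n := by
    rw [Subgroup.index]
    simpa using Nat.card_le_card_of_injective f hfinj
  have hidx0 : (K.subgroupOf H).index ≠ 0 := Nat.card_pos.ne'
  have hcard : Nat.card H = Nat.card K * (K.subgroupOf H).index := by
    rw [← Subgroup.card_mul_index (K.subgroupOf H), Nat.card_congr (Subgroup.subgroupOfEquivOfLe hKH).toEquiv]
  rw [hcard]
  refine ⟨?_, mul_ne_zero hK.2 hidx0⟩
  rw [Nat.mul_comm D.n c]
  exact Nat.mul_le_mul hK.1 hidx

/-- Top step: the whole group. -/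
theorem card_top {c : ℕ} {H : Subgroup S.G} (hidx : H.index = D.n) (hn : 0 < D.n)
    (hH : Nat.card H ≤ c ∧ Nat.card H ≠ 0) : Nat.card S.G ≤ D.n * c ∧ Nat.card S.G ≠ 0 := by
  rw [← Subgroup.card_mul_index H, hidx]
  exact ⟨by rw [Nat.mul_comm D.n c]; exact Nat.mul_le_mul_right _ hH.1, mul_ne_zero hH.2 hn.ne'⟩

/-- A chain of orbits: the words of each level fix the roots of all earlier levels. -/
noncomputable def chainOK (D : Data) : List OrbitData → List ℕ → Bool := fun l =>
  List.rec (motive := fun _ => List ℕ → Bool) (fun _ => true)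
    (fun O _ ih roots => D.reachOK O &&
      ((O.words.all fun w => roots.all fun b => Nat.beq (lane D.B (D.trace w) b) b) &&
        ih (O.root :: roots))) l

def chainSize : List OrbitData → ℕ
  | [] => 1
  | O :: l => O.size * chainSize l

theorem le_card_perm (hp : D.PermFacts) : ∀ (l : List OrbitData) (roots : List ℕ), chainOK D l roots = true →
    (∀ b ∈ roots, b < D.n) → ∀ (P : Subgroup (Equiv.Perm (Fin D.n))),
    (∀ g : Equiv.Perm (Fin D.n), (∃ w, (∀ a ∈ w, a < D.k) ∧ g = ev (perm D hp) w) →
      (∀ b ∈ roots, ∀ i : Fin D.n, (i : ℕ) = b → g i = i) → g ∈ P) →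
    chainSize l ≤ Nat.card P
  | [], _, _, _, P, _ => Nat.card_pos
  | O :: l, roots, h, hroots, P, hP => by
    change (D.reachOK O && ((O.words.all fun w => roots.all fun b => Nat.beq (lane D.B (D.trace w) b) b) &&
      chainOK D l (O.root :: roots))) = true at h
    simp only [Bool.and_eq_true, List.all_eq_true, beq_iff] at h
    obtain ⟨hreach, hfix, hrest⟩ := h
    obtain ⟨hrootmem, hcard, hind⟩ := orbit_reach hp hreach
    have hwk : ∀ w ∈ O.words, ∀ a ∈ w, a < D.k := by
      intro w hw
      obtain ⟨j, hj, rfl⟩ := List.getElem_of_mem hw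
      unfold Data.reachOK at hreach
      simp only [Bool.and_eq_true, beq_iff, List.all_eq_true] at hreach
      have := hreach.2.2.2.1 (O.words[j], O.sels[j]'(by have := hreach.1; omega))
        (List.mem_of_getElem (i := j) (h := by simp; have := hreach.1; omega) (by simp))
      unfold Data.orbSelOK at this
      simp only [Bool.and_eq_true, List.all_eq_true, Nat.blt_eq] at this
      exact this.1
    have hwP : ∀ w ∈ O.words, ev (perm D hp) w ∈ P := fun w hw => hP _ ⟨w, hwk w hw, rfl⟩ fun b hb i hi => by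
      have := hfix w hw b hb
      rw [trace_eq hp w (hwk w hw), lane_pack hp.hB
        (fun j hj => self_lt_two_pow_of_lt (by have := hp.hlg; omega) (tw_lt hp w (hwk w hw) j hj))
        (lt_of_lt_of_le (hroots b hb) hp.hnN)] at this
      exact Fin.ext (by rw [ev_perm hp w (hwk w hw), hi, this])
    set r : Fin D.n := ⟨O.root, hrootmem.1⟩
    have horbit : ∀ i ∈ Data.maskSet D O, ∃ x ∈ MulAction.orbit P r, ((x : Fin D.n) : ℕ) = i := by
      refine hind ⟨r, MulAction.mem_orbit_self r, rfl⟩ fun w hw i hi => ?_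
      rintro ⟨x, hx, rfl⟩
      refine ⟨ev (perm D hp) w x, ?_, ev_perm hp w (hwk w hw) x⟩
      exact MulAction.mem_orbit_of_mem_orbit (⟨ev (perm D hp) w, hwP w hw⟩ : P) hx
    have horb : O.size ≤ Nat.card (MulAction.orbit P r) := by
      have hsub : Data.maskSet D O ⊆ (fun x : Fin D.n => (x : ℕ)) '' MulAction.orbit P r := fun i hi => by
        obtain ⟨x, hx, e⟩ := horbit i hi
        exact ⟨x, hx, e⟩
      rw [← hcard, Nat.card_coe_set_eq, ← Set.ncard_image_of_injective _ Fin.val_injective]
      exact Set.ncard_le_ncard hsub (Set.toFinite _)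
    let Q : Subgroup (Equiv.Perm (Fin D.n)) := P ⊓ MulAction.stabilizer (Equiv.Perm (Fin D.n)) r
    have hQ := le_card_perm hp l (O.root :: roots) hrest
      (fun b hb => by rcases List.mem_cons.mp hb with rfl | hb; exacts [hrootmem.1, hroots b hb]) Q
      (fun g hg hb => ⟨hP g hg fun b hb' i hi => hb b (List.mem_cons_of_mem _ hb') i hi,
        hb O.root List.mem_cons_self r rfl⟩)
    have hstab : Nat.card Q ≤ Nat.card (MulAction.stabilizer P r) := by
      refine Nat.card_le_card_of_injective (fun q => ⟨⟨q.1, q.2.1⟩, q.2.2⟩) fun q q' h => ?_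
      exact Subtype.ext (congrArg (fun x : MulAction.stabilizer P r => x.1.1) h)
    show O.size * chainSize l ≤ Nat.card P
    calc O.size * chainSize l ≤ Nat.card (MulAction.orbit P r) * Nat.card (MulAction.stabilizer P r) :=
          Nat.mul_le_mul horb (hQ.trans hstab)
      _ = Nat.card P := by
          rw [← Nat.card_prod]
          exact Nat.card_congr (MulAction.orbitProdStabilizerEquivGroup P r)

theorem ev_perm_mem_range (hgens : ∀ x, x ∈ S.gens) (hl : S.lettersOK D = true) (hp : D.PermFacts)
    (hr : S.relsOK D = true) (w : List ℕ) (hw : ∀ a ∈ w, a < D.k) :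
    ev (perm D hp) w ∈ (hom hgens hl hp hr).range :=
  ev_mem _ _ w fun a ha => ⟨S.el a, hom_el hgens hl hp hr (hw a ha)⟩

/-- Lower bound for the image of the permutation representation. -/
theorem le_card_range (hgens : ∀ x, x ∈ S.gens) (hl : S.lettersOK D = true) (hp : D.PermFacts)
    (hr : S.relsOK D = true) (l : List OrbitData) (h : chainOK D l [] = true) :
    chainSize l ≤ Nat.card (hom hgens hl hp hr).range :=
  le_card_perm hp l [] h (fun _ hb => by simp at hb) _ fun g ⟨w, hw, e⟩ _ =>
    e ▸ ev_perm_mem_range hgens hl hp hr w hw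

/-- If the chain reaches the upper bound then the order is exact and the representation is faithful. -/
theorem card_eq_of_bounds (hgens : ∀ x, x ∈ S.gens) (hl : S.lettersOK D = true) (hp : D.PermFacts)
    (hr : S.relsOK D = true) (l : List OrbitData) (h : chainOK D l [] = true) {c : ℕ}
    (hub : Nat.card S.G ≤ c ∧ Nat.card S.G ≠ 0) (hc : chainSize l = c) :
    Nat.card S.G = c ∧ Function.Injective (hom hgens hl hp hr) := by
  haveI : Finite S.G := Nat.finite_of_card_ne_zero hub.2
  have h1 := le_card_range hgens hl hp hr l h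
  have h2 : Nat.card (hom hgens hl hp hr).range ≤ Nat.card S.G :=
    Nat.card_le_card_of_surjective _ (hom hgens hl hp hr).rangeRestrict_surjective
  have e : Nat.card S.G = c := le_antisymm hub.1 (by omega)
  refine ⟨e, ?_⟩
  have hb : Function.Bijective (hom hgens hl hp hr).rangeRestrict :=
    (Nat.bijective_iff_surjective_and_card _).mpr ⟨(hom hgens hl hp hr).rangeRestrict_surjective, by omega⟩
  intro x y hxy
  exact hb.1 (Subtype.ext hxy)

/-- The orbits of the subgroup on its cosets. -/
theorem orbit_ncard (hgens : ∀ x, x ∈ S.gens) (hl : S.lettersOK D = true) (hc : D.check = true)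
    (hr : S.relsOK D = true) (hp : D.PermFacts) {hs : List (FreeGroup Gen)} (hsub : S.subOK D hs = true)
    {ext : List (List ℕ)} (hsrc : S.srcOK D hs ext = true) (H : Subgroup S.G)
    (hH : H = S.closureOf hs)
    (hext : ∀ w ∈ ext, ev S.el w • ((1 : S.G) : S.G ⧸ H) = ((1 : S.G) : S.G ⧸ H))
    (O : OrbitData) (hO : D.reachOK O = true) (hinv : D.invariantOK O = true) (hw : O.words = hs.map (S.wl D)) :
    ∃ (q : S.G ⧸ H) (e : Fin D.n ≃ S.G ⧸ H), (MulAction.orbit H q).ncard = O.size ∧
      MulAction.orbit H q = e '' {i | (i : ℕ) ∈ Data.maskSet D O} ∧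
      e = (exists_equiv hgens hl hc hr hp hsub hsrc H hH hext).choose := by
  set e := (exists_equiv hgens hl hc hr hp hsub hsrc H hH hext).choose with he
  obtain ⟨_, heq⟩ := (exists_equiv hgens hl hc hr hp hsub hsrc H hH hext).choose_spec
  rw [← he] at heq
  obtain ⟨hroot, hcard, hind⟩ := orbit_reach hp hO
  have hI := orbit_invariant hp hO hinv
  set r : Fin D.n := ⟨O.root, hroot.1⟩
  have hmem : ∀ h ∈ hs, PresentedGroup.mk S.rels h ∈ H := fun h hh => by
    rw [hH]; exact Subgroup.subset_closure ⟨h, hh, rfl⟩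
  have horb : MulAction.orbit H (e r) = e '' {i | (i : ℕ) ∈ Data.maskSet D O} := by
    apply Set.Subset.antisymm
    · have key : ∀ g ∈ H, ∀ i : Fin D.n,
          (((hom hgens hl hp hr g i : Fin D.n) : ℕ) ∈ Data.maskSet D O ↔ (i : ℕ) ∈ Data.maskSet D O) := by
        intro g hg
        rw [hH, closureOf] at hg
        induction hg using Subgroup.closure_induction with
        | mem g hg =>
          obtain ⟨h, hh, rfl⟩ := hg
          intro i
          obtain ⟨hwk, hiff⟩ := hI (S.wl D h) (hw ▸ List.mem_map.mpr ⟨h, hh, rfl⟩)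
          rw [hom_mk, ev_perm hp _ hwk]
          exact hiff i i.2
        | one => intro i; simp
        | mul x y _ _ hx hy => intro i; rw [map_mul, Equiv.Perm.mul_apply, hx, hy]
        | inv x _ hx =>
          intro i
          rw [map_inv, ← hx ((hom hgens hl hp hr x)⁻¹ i)]
          simp
      rintro _ ⟨g, rfl⟩
      exact ⟨hom hgens hl hp hr (g : S.G) r, (key g g.2 r).mpr hroot, (heq (g : S.G) r).symm⟩
    · rintro _ ⟨i, hi, rfl⟩
      have := hind (P := fun j => ∃ g : H, ((hom hgens hl hp hr (g : S.G) r : Fin D.n) : ℕ) = j)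
        ⟨1, by simp [r]⟩ (fun w hw' j hj => by
          rintro ⟨g, rfl⟩
          rw [hw, List.mem_map] at hw'
          obtain ⟨h, hh, rfl⟩ := hw'
          refine ⟨⟨PresentedGroup.mk S.rels h, hmem h hh⟩ * g, ?_⟩
          rw [Subgroup.coe_mul, map_mul, Equiv.Perm.mul_apply, hom_mk,
            ev_perm hp _ (hI _ (hw ▸ List.mem_map.mpr ⟨h, hh, rfl⟩)).1]) i hi
      obtain ⟨g, hg⟩ := this
      exact ⟨g, by rw [← Fin.ext hg]; exact heq (g : S.G) r⟩
  refine ⟨e r, e, ?_, horb, rfl⟩
  rw [horb, Set.ncard_image_of_injective _ e.injective, ← hcard]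
  rw [← Set.ncard_image_of_injective {i : Fin D.n | (i : ℕ) ∈ Data.maskSet D O} Fin.val_injective]
  congr 1
  ext i
  exact ⟨fun ⟨x, hx, e⟩ => e ▸ hx, fun hi => ⟨⟨i, hi.1⟩, hi, rfl⟩⟩

end Setup

end Cfsg.Agent.CosetEnum
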