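/-
Simplicity from a coset table: primitivity from the suborbit sizes, then every normal subgroup contains all
`p`-elements for a prime `p` whose full power in the order divides the degree, and such elements kill every
generator.
Main result: `Setup.isSimpleGroup_of_cert`.
-/
import Cfsg.Agent.Lib.CosetEnum.Order

set_option autoImplicit false

namespace Cfsg.Agent.CosetEnum

open Data

namespace Setup

variable {Gen : Type} [DecidableEq Gen] {S : Setup Gen} {D : Data}

/-- Power of a word. -/
def wpow (w : List ℕ) : ℕ → List ℕ
  | 0 => []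
  | m + 1 => w ++ wpow w m

theorem ev_wpow {M : Type*} [Group M] (el : ℕ → M) (w : List ℕ) : ∀ m, ev el (wpow w m) = ev el w ^ m
  | 0 => by simp [wpow, ev]
  | m + 1 => by rw [wpow, ev_append, ev_wpow el w m, pow_succ]

/-- Suborbits: masks partition the points other than `0`, and no proper block is possible. -/
noncomputable def blockOK (D : Data) (orbs : List OrbitData) : Bool :=
  Nat.beq (Nat.add (Data.orbSum (orbs.map fun O => O.mask)) 1) (below D.B D.n D.one) &&
    (Nat.blt orbs.length (D.B - 1) &&
      (orbs.map fun O => O.size).sublists.all fun T =>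
        Nat.beq T.length 0 || (Nat.beq T.length orbs.length || !Nat.beq (D.n % (1 + T.sum)) 0))

/-- Each generator letter is killed by a `p`-element. -/
noncomputable def killOK (D : Data) (p : ℕ) (kill : List (List ℕ × ℕ × ℕ)) : Bool :=
  Nat.beq kill.length D.k && (List.range D.k).all fun a =>
    let e := kill.getD a ([], 0, 0)
    List.all e.1 (fun b => Nat.blt b D.k) &&
      (bif Nat.beq e.2.1 0 then
        -- a conjugate of an earlier letter
        Nat.blt e.2.2 a && (D.closed (e.1 ++ D.winv e.1) &&
          D.closed ([a] ++ (e.1 ++ ([D.invl e.2.2] ++ D.winv e.1))))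
      else D.closed (wpow e.1 p) &&
        (D.closed (wpow ([a] ++ e.1) e.2.1) && (D.closed (wpow [a] e.2.2) && Nat.beq (Nat.gcd e.2.1 e.2.2) 1)))

noncomputable def killOneOK (D : Data) (p : ℕ) (a : ℕ) (e : List ℕ × ℕ × ℕ) : Bool :=
  List.all e.1 (fun b => Nat.blt b D.k) &&
    (bif Nat.beq e.2.1 0 then
      -- a conjugate of an earlier letter
      Nat.blt e.2.2 a && (D.closed (e.1 ++ D.winv e.1) &&
        D.closed ([a] ++ (e.1 ++ ([D.invl e.2.2] ++ D.winv e.1))))
    else D.closed (wpow e.1 p) &&
      (D.closed (wpow ([a] ++ e.1) e.2.1) && (D.closed (wpow [a] e.2.2) && Nat.beq (Nat.gcd e.2.1 e.2.2) 1)))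

/-- A root entry from its three closed words. -/
theorem killOneOK_of {D : Data} {p a : ℕ} {x : List ℕ} {m o : ℕ} (hx : x.all (fun b => Nat.blt b D.k) = true)
    (hm : Nat.beq m 0 = false) (h₁ : D.closed (wpow x p) = true) (h₂ : D.closed (wpow ([a] ++ x) m) = true)
    (h₃ : D.closed (wpow [a] o) = true) (hg : Nat.gcd m o = 1) : killOneOK D p a (x, m, o) = true := by
  show (x.all (fun b => Nat.blt b D.k) && _) = true
  rw [hx]
  simp only [hm, cond_false, h₁, h₂, h₃, hg, Bool.true_and]
  rfl

/-- The kill certificate from its entries. -/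
theorem killOK_of {D : Data} {p : ℕ} {kill : List (List ℕ × ℕ × ℕ)} (hlen : kill.length = D.k)
    (h : ∀ a < D.k, killOneOK D p a (kill.getD a ([], 0, 0)) = true) : killOK D p kill = true := by
  unfold killOK
  simp only [Bool.and_eq_true, List.all_eq_true, List.mem_range]
  refine ⟨by rw [hlen]; exact Nat.beq_refl _, fun a ha => ?_⟩
  have := h a ha
  unfold killOneOK at this
  simpa only [Bool.and_eq_true, List.all_eq_true] using this

theorem isSimpleGroup_of_cert (hgens : ∀ x, x ∈ S.gens) (hl : S.lettersOK D = true) (hc : D.check = true)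
    (hr : S.relsOK D = true) (hp : D.PermFacts) {hs : List (FreeGroup Gen)} (hsub : S.subOK D hs = true)
    {ext : List (List ℕ)} (hsrc : S.srcOK D hs ext = true)
    (hext : ∀ w ∈ ext, ev S.el w • ((1 : S.G) : S.G ⧸ S.closureOf hs) = ((1 : S.G) : S.G ⧸ S.closureOf hs))
    (hinj : Function.Injective (hom hgens hl hp hr)) (hn : 2 ≤ D.n)
    (orbs : List OrbitData) (horbs : ∀ O ∈ orbs, D.reachOK O = true ∧ D.invariantOK O = true ∧
      O.words = hs.map (S.wl D))
    (hblock : blockOK D orbs = true) (p a : ℕ) (hp' : p.Prime) (hpn : p ^ a ∣ D.n)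
    (hpc : ¬ p ^ (a + 1) ∣ Nat.card S.G) (kill : List (List ℕ × ℕ × ℕ)) (hkill : killOK D p kill = true) :
    IsSimpleGroup S.G := by
  classical
  set ρ := hom hgens hl hp hr with hρ
  set H := S.closureOf hs with hH
  obtain ⟨e, he0, heq⟩ := exists_equiv hgens hl hc hr hp hsub hsrc H rfl hext
  rw [← hρ] at heq
  set z : Fin D.n := ⟨0, hp.hn⟩
  have hidx : H.index = D.n := by rw [Subgroup.index, ← Nat.card_congr e, Nat.card_fin]
  have hval : ∀ g, ((g : S.G) : S.G ⧸ H) = e (ρ g z) := by
    intro g
    rw [← heq, he0]
    show _ = ((g * 1 : S.G) : S.G ⧸ H)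
    rw [mul_one]
  have hstab : ∀ g, g ∈ H ↔ ρ g z = z := by
    intro g
    have h1 := hval g
    have h2 := hval 1
    rw [map_one] at h2
    constructor
    · intro hg
      have h3 : ((g : S.G) : S.G ⧸ H) = ((1 : S.G) : S.G ⧸ H) := QuotientGroup.eq.mpr (by simpa using hg)
      exact e.injective (h1.symm.trans (h3.trans h2))
    · intro hg
      rw [hg] at h1
      have h3 : ((g : S.G) : S.G ⧸ H) = ((1 : S.G) : S.G ⧸ H) := h1.trans h2.symm
      simpa using QuotientGroup.eq.mp h3
  haveI : Finite (Equiv.Perm (Fin D.n)) := inferInstance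
  haveI : Finite S.G := Finite.of_injective ρ hinj
  haveI : Nontrivial S.G := by
    refine ⟨?_⟩
    by_contra hc
    push Not at hc
    have htop : H = ⊤ := by
      rw [eq_top_iff]; intro x _; rw [hc x 1]; exact H.one_mem
    rw [htop, Subgroup.index_top] at hidx
    omega
  refine ⟨fun N hN => ?_⟩
  haveI := hN
  by_cases hNH : N ≤ H
  · left
    rw [Subgroup.eq_bot_iff_forall]
    intro x hx
    refine hinj ((Equiv.ext fun i => ?_).trans (map_one ρ).symm)
    obtain ⟨g, hg⟩ : ∃ g, ρ g z = i := by
      obtain ⟨g, hg⟩ := QuotientGroup.mk_surjective (e i)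
      exact ⟨g, e.injective (by rw [← hval, hg])⟩
    have hm : g⁻¹ * x * g ∈ N := by simpa [mul_assoc] using hN.conj_mem x hx g⁻¹
    have := (hstab _).mp (hNH hm)
    rw [map_mul, map_mul, Equiv.Perm.mul_apply, Equiv.Perm.mul_apply, hg, map_inv,
      Equiv.Perm.inv_eq_iff_eq] at this
    exact this.trans hg
  · right
    -- the block of N
    set M := N ⊔ H with hM
    have hMH : H ≤ M := le_sup_right
    set Bk : Finset (Fin D.n) := Finset.univ.filter fun i => ∃ g ∈ M, ρ g z = i with hBk
    have hzB : z ∈ Bk := by simp only [hBk, Finset.mem_filter, Finset.mem_univ, true_and]; exact ⟨1, M.one_mem, by simp⟩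
    have hBcard : Bk.card = H.relIndex M := by
      have hb : ∀ g : M, ρ (g : S.G) z ∈ Bk := fun g => by
        simp only [hBk, Finset.mem_filter, Finset.mem_univ, true_and]; exact ⟨g, g.2, rfl⟩
      let f : M ⧸ H.subgroupOf M → Bk := Quotient.lift (fun g : M => (⟨ρ (g : S.G) z, hb g⟩ : Bk)) (by
        intro g g' hgg
        have hm : g⁻¹ * g' ∈ H.subgroupOf M := QuotientGroup.leftRel_apply.mp hgg
        have := (hstab _).mp (Subgroup.mem_subgroupOf.mp hm)
        refine Subtype.ext ?_
        show ρ (g : S.G) z = ρ (g' : S.G) z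
        have h2 := congrArg (ρ (g : S.G)) this
        rw [← Equiv.Perm.mul_apply, ← map_mul] at h2
        simpa using h2.symm)
      have hf : Function.Bijective f := by
        constructor
        · intro q q'
          induction q using QuotientGroup.induction_on with | H g => ?_
          induction q' using QuotientGroup.induction_on with | H g' => ?_
          intro h
          refine QuotientGroup.eq.mpr (Subgroup.mem_subgroupOf.mpr ((hstab _).mpr ?_))
          have h' : ρ (g : S.G) z = ρ (g' : S.G) z := congrArg Subtype.val h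
          simp only [Subgroup.coe_mul, Subgroup.coe_inv, map_mul, map_inv, Equiv.Perm.mul_apply]
          rw [← h', Equiv.Perm.inv_eq_iff_eq]
        · rintro ⟨i, hi⟩
          simp only [hBk, Finset.mem_filter, Finset.mem_univ, true_and] at hi
          obtain ⟨g, hg, rfl⟩ := hi
          exact ⟨QuotientGroup.mk ⟨g, hg⟩, rfl⟩
      rw [Subgroup.relIndex, Subgroup.index, Nat.card_congr (Equiv.ofBijective f hf), Nat.card_eq_fintype_card,
        Fintype.card_coe]
    -- invariance of the block
    have hinvB : ∀ g ∈ H, ∀ i, i ∈ Bk → ρ g i ∈ Bk := by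
      intro g hg i hi
      simp only [hBk, Finset.mem_filter, Finset.mem_univ, true_and] at hi ⊢
      obtain ⟨u, hu, rfl⟩ := hi
      exact ⟨g * u, M.mul_mem (hMH hg) hu, by rw [map_mul, Equiv.Perm.mul_apply]⟩
    have hall : ∀ O ∈ orbs, ∀ i : Fin D.n, (i : ℕ) ∈ maskSet D O → ∀ j : Fin D.n, (j : ℕ) ∈ maskSet D O →
        i ∈ Bk → j ∈ Bk := by
      intro O hO i hi j hj hiB
      obtain ⟨h1, h2, h3⟩ := horbs O hO
      obtain ⟨hroot, _, hind⟩ := orbit_reach hp h1
      set r : Fin D.n := ⟨O.root, hroot.1⟩
      have key : ∀ l ∈ maskSet D O, ∃ g ∈ H, ((ρ g r : Fin D.n) : ℕ) = l := by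
        refine hind ⟨1, H.one_mem, by simp [r]⟩ fun w hw l _ => ?_
        rintro ⟨g, hg, rfl⟩
        rw [h3, List.mem_map] at hw
        obtain ⟨h, hh, rfl⟩ := hw
        have hwk := (orbit_invariant hp h1 h2 _ (h3 ▸ List.mem_map.mpr ⟨h, hh, rfl⟩)).1
        refine ⟨PresentedGroup.mk S.rels h * g, H.mul_mem (Subgroup.subset_closure ⟨h, hh, rfl⟩) hg, ?_⟩
        rw [map_mul, Equiv.Perm.mul_apply, hρ, hom_mk, ev_perm hp _ hwk]
      obtain ⟨g, hg, hgi⟩ := key i hi
      obtain ⟨g', hg', hgj⟩ := key j hj
      have : ρ (g' * g⁻¹) i ∈ Bk := hinvB _ (H.mul_mem hg' (H.inv_mem hg)) i hiB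
      have e1 : (ρ g)⁻¹ i = r := by
        rw [← Fin.ext hgi]
        simp
      rwa [map_mul, map_inv, Equiv.Perm.mul_apply, e1, Fin.ext hgj] at this
    unfold blockOK at hblock
    simp only [Bool.and_eq_true, beq_iff, Nat.blt_eq, List.all_eq_true, Bool.or_eq_true, Bool.not_eq_true'] at hblock
    obtain ⟨hsum, hlen, hT⟩ := hblock
    have hB := hp.hB
    -- lanes of the masks
    have hmask : ∀ O ∈ orbs, O.mask = pack D.B (2 ^ D.lg) (lane D.B O.mask) ∧
        ∀ i < 2 ^ D.lg, lane D.B O.mask i = 0 ∨ lane D.B O.mask i = 1 := by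
      intro O hO
      have h := (horbs O hO).1
      unfold Data.reachOK at h
      simp only [Bool.and_eq_true, beq_iff] at h
      have h1 : O.mask &&& D.one = O.mask := h.2.2.2.2.1
      rw [show D.one = pack D.B (2 ^ D.lg) (fun _ => 1) from rep_eq _ _] at h1
      exact mask_zero_one hB h1
    have hs := orbSum_eq (B := D.B) (N := 2 ^ D.lg) (orbs.map fun O => O.mask) (fun m i => lane D.B m i)
      (fun m hm => by obtain ⟨O, hO, rfl⟩ := List.mem_map.mp hm; exact (hmask O hO).1)
    have h1pack : (1 : ℕ) = pack D.B (2 ^ D.lg) (fun i => if i = 0 then 1 else 0) := by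
      obtain ⟨L, hL⟩ : ∃ L, 2 ^ D.lg = L + 1 := ⟨2 ^ D.lg - 1, by have := Nat.two_pow_pos D.lg; omega⟩
      rw [hL]
      simp only [pack]
      rw [pack_congr (g := fun _ => 0) (fun i _ => by simp), pack_zero]
      simp
    change Data.orbSum (orbs.map fun O => O.mask) + 1 = below D.B D.n D.one at hsum
    rw [show D.one = pack D.B (2 ^ D.lg) (fun _ => 1) from rep_eq _ _, below_eq hB, hs] at hsum
    replace hsum := (congrArg (fun t => pack D.B (2 ^ D.lg)
      (fun i => ((orbs.map fun O => O.mask).map fun m => lane D.B m i).sum) + t) h1pack).symm.trans hsum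
    rw [pack_add] at hsum
    have hlesum : ∀ (l : List OrbitData), (∀ O ∈ l, O ∈ orbs) → ∀ i < 2 ^ D.lg,
        ((l.map fun O => O.mask).map fun m => lane D.B m i).sum ≤ l.length := by
      intro l hl i hi
      induction l with
      | nil => simp
      | cons O l ih =>
        have := ih (fun x hx => hl x (List.mem_cons_of_mem O hx))
        simp only [List.map_cons, List.sum_cons, List.length_cons]
        rcases (hmask O (hl O List.mem_cons_self)).2 i hi with h | h <;> omega
    have hbd : ∀ i < 2 ^ D.lg, ((orbs.map fun O => O.mask).map fun m => lane D.B m i).sum +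
        (if i = 0 then 1 else 0) < 2 ^ D.B := by
      intro i hi
      have := hlesum orbs (fun _ h => h) i hi
      have h2 : D.B < 2 ^ D.B := Nat.lt_two_pow_self
      split <;> omega
    have hlane := pack_inj hB hbd (fun i _ => by
      have := Nat.two_pow_pos D.B
      have : 1 < 2 ^ D.B := Nat.one_lt_two_pow (by omega)
      split <;> omega) hsum
    -- which orbits lie in the block
    let meets : OrbitData → Bool := fun O => decide (∃ i ∈ Bk, (i : ℕ) ∈ maskSet D O)
    have hone : ∀ i ∈ Finset.univ (α := Fin D.n),
        (orbs.map fun O => lane D.B O.mask i).sum + (if i = z then 1 else 0) = 1 := by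
      intro i _
      have h := hlane i (lt_of_lt_of_le i.2 hp.hnN)
      rw [List.map_map, if_pos i.2] at h
      have : (i = z) ↔ (i : ℕ) = 0 := ⟨fun h => by rw [h], fun h => Fin.ext h⟩
      simp only [this]
      exact h
    have hsize : ∀ O ∈ orbs, ∑ i ∈ Bk, lane D.B O.mask i = if meets O then O.size else 0 := by
      intro O hO
      obtain ⟨h1, h2, h3⟩ := horbs O hO
      obtain ⟨_, hcard, _⟩ := orbit_reach hp h1
      have hlane01 : ∀ i : Fin D.n, lane D.B O.mask i = if (i : ℕ) ∈ maskSet D O then 1 else 0 := by
        intro i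
        rcases (hmask O hO).2 i (lt_of_lt_of_le i.2 hp.hnN) with h | h <;> simp [maskSet, i.2, h]
      simp only [hlane01, Finset.sum_boole, Nat.cast_id]
      by_cases hm : ∃ i ∈ Bk, (i : ℕ) ∈ maskSet D O
      · rw [if_pos (by simpa [meets] using hm)]
        obtain ⟨i, hiB, hi⟩ := hm
        rw [← hcard, ← Set.ncard_coe_finset, ← Set.ncard_image_of_injective _ Fin.val_injective]
        congr 1
        ext j
        simp only [Set.mem_image, Finset.coe_filter, Set.mem_ofPred_eq]
        exact ⟨fun ⟨x, ⟨_, hx⟩, e⟩ => e ▸ hx, fun hj => ⟨⟨j, hj.1⟩, ⟨hall O hO i hi _ hj hiB, hj⟩, rfl⟩⟩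
      · rw [if_neg (by simpa [meets] using hm), Finset.card_eq_zero, Finset.filter_eq_empty_iff]
        exact fun i hi h => hm ⟨i, hi, h⟩
    have hswap : ∀ (l : List OrbitData), ∑ i ∈ Bk, (l.map fun O => lane D.B O.mask i).sum
        = (l.map fun O => ∑ i ∈ Bk, lane D.B O.mask i).sum := by
      intro l
      induction l with
      | nil => simp
      | cons O l ih => simp [Finset.sum_add_distrib, ih]
    have hfilter : ∀ (l : List OrbitData), (∀ O ∈ l, O ∈ orbs) →
        (l.map fun O => ∑ i ∈ Bk, lane D.B O.mask i).sum = ((l.filter meets).map fun O => O.size).sum := by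
      intro l hl
      induction l with
      | nil => simp
      | cons O l ih =>
        have := ih (fun x hx => hl x (List.mem_cons_of_mem O hx))
        simp only [List.map_cons, List.sum_cons, hsize O (hl O List.mem_cons_self), this]
        cases hmO : meets O <;> simp [List.filter, hmO]
    set T := (orbs.filter meets).map fun O => O.size
    have hcardT : Bk.card = 1 + T.sum := by
      calc Bk.card = ∑ i ∈ Bk, ((orbs.map fun O => lane D.B O.mask i).sum + if i = z then 1 else 0) := by
            rw [Finset.card_eq_sum_ones]; exact Finset.sum_congr rfl fun i _ => (hone i (Finset.mem_univ i)).symm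
        _ = T.sum + 1 := by
            rw [Finset.sum_add_distrib, hswap, hfilter orbs (fun _ h => h), Finset.sum_ite_eq', if_pos hzB]
        _ = 1 + T.sum := Nat.add_comm _ _
    have hdvd : 1 + T.sum ∣ D.n := by
      rw [← hcardT, hBcard, ← hidx]
      exact Subgroup.relIndex_dvd_index_of_le hMH
    have hTmem : T ∈ (orbs.map fun O => O.size).sublists :=
      List.mem_sublists.mpr ((List.filter_sublist).map _)
    have hMtop : M = ⊤ := by
      rcases hT T hTmem with h | h | h
      · exfalso
        have : T = [] := List.length_eq_zero_iff.mp h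
        rw [this, List.sum_nil] at hcardT
        rw [hBcard] at hcardT
        exact hNH (le_trans le_sup_left (Subgroup.relIndex_eq_one.mp hcardT))
      · have hfull : orbs.filter meets = orbs := by
          refine List.Sublist.eq_of_length List.filter_sublist ?_
          simpa [T] using h
        have hcard' : Bk.card = D.n := by
          have e0 : D.n = ∑ i : Fin D.n, ((orbs.map fun O => lane D.B O.mask i).sum + if i = z then 1 else 0) := by
            rw [Finset.sum_congr rfl hone]
            simp
          refine Eq.trans ?_ e0.symm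
          rw [hcardT, Finset.sum_add_distrib, Finset.sum_ite_eq', if_pos (Finset.mem_univ z)]
          have hu : ∀ (l : List OrbitData), (∀ O ∈ l, O ∈ orbs) →
              ∑ i : Fin D.n, (l.map fun O => lane D.B O.mask i).sum = (l.map fun O => O.size).sum := by
            intro l hl
            induction l with
            | nil => simp
            | cons O l ih =>
              have := ih (fun x hx => hl x (List.mem_cons_of_mem O hx))
              simp only [List.map_cons, List.sum_cons, Finset.sum_add_distrib, this]
              congr 1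
              have hO := hl O List.mem_cons_self
              obtain ⟨_, hcard, _⟩ := orbit_reach hp (horbs O hO).1
              have hlane01 : ∀ i : Fin D.n, lane D.B O.mask i = if (i : ℕ) ∈ maskSet D O then 1 else 0 := by
                intro i
                rcases (hmask O hO).2 i (lt_of_lt_of_le i.2 hp.hnN) with h | h <;> simp [maskSet, i.2, h]
              simp only [hlane01, Finset.sum_boole, Nat.cast_id]
              rw [← hcard, ← Set.ncard_coe_finset, ← Set.ncard_image_of_injective _ Fin.val_injective]
              congr 1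
              ext j
              simp only [Set.mem_image, Finset.coe_filter, Set.mem_ofPred_eq, Finset.mem_univ, true_and]
              exact ⟨fun ⟨x, hx, e⟩ => e ▸ hx, fun hj => ⟨⟨j, hj.1⟩, hj, rfl⟩⟩
          rw [hu orbs (fun _ h => h)]
          simp only [T, hfull]
          omega
        have h1 : M.index * H.relIndex M = D.n := by
          rw [← hidx, Nat.mul_comm, Subgroup.relIndex_mul_index hMH]
        rw [← hBcard, hcard'] at h1
        exact Subgroup.index_eq_one.mp (by
          exact Nat.eq_of_mul_eq_mul_right hp.hn (by rw [h1, Nat.one_mul]))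
      · rw [Nat.mod_eq_zero_of_dvd hdvd] at h
        simp at h
    -- p does not divide the index of N
    have hpN : ¬ p ∣ N.index := by
      intro hpd
      refine hpc ?_
      have h1 : N.index * Nat.card N = Nat.card S.G := Subgroup.index_mul_card N
      have h2 : p ^ a ∣ Nat.card N := by
        refine hpn.trans ?_
        have h3 : H.relIndex N = D.n := by
          rw [← hidx]
          have h4 : H.relIndex (N ⊔ H) = H.relIndex N := by
            have a1 := Subgroup.relIndex_mul_relIndex (H ⊓ N) N (N ⊔ H) inf_le_right le_sup_left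
            have a2 := Subgroup.relIndex_mul_relIndex (H ⊓ N) H (N ⊔ H) inf_le_left le_sup_right
            rw [Subgroup.inf_relIndex_right, Subgroup.relIndex_sup_left] at a1
            rw [Subgroup.inf_relIndex_left] at a2
            have hpos : 0 < N.relIndex H := Nat.pos_of_ne_zero (by
              unfold Subgroup.relIndex Subgroup.index; exact Nat.card_pos.ne')
            refine Nat.eq_of_mul_eq_mul_left hpos (a2.trans (a1.symm.trans ?_))
            exact Nat.mul_comm _ _
          rw [← h4, ← hM, hMtop, Subgroup.relIndex_top_right]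
        rw [← h3]
        exact Dvd.intro_left _ (Subgroup.card_mul_index (H.subgroupOf N))
      rw [← h1, pow_succ']
      exact mul_dvd_mul hpd h2
    -- every generator lies in N
    obtain ⟨_, hlet⟩ := letters_spec hgens hl
    unfold killOK at hkill
    simp only [Bool.and_eq_true, beq_iff, List.all_eq_true, List.mem_range, Nat.blt_eq] at hkill
    have hone' : ∀ w : List ℕ, D.closed w = true → ev S.el w = 1 := by
      intro w hw
      refine hinj ?_
      rw [map_one, ← closed_ev hp hw]
      have : ∀ v : List ℕ, (∀ b ∈ v, b < D.k) → ρ (ev S.el v) = ev (perm D hp) v := by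
        intro v
        induction v with
        | nil => intro _; exact map_one ρ
        | cons b v ih =>
          intro hv
          show ρ (ev S.el v * S.el b) = _
          rw [map_mul, ih (fun c hc => hv c (List.mem_cons_of_mem b hc)), hρ, hom_el hgens hl hp hr (hv b List.mem_cons_self)]
          rfl
      exact this w (closed_spec hp hw).1
    have hmem : ∀ b < D.k, S.el b ∈ N := by
      intro b
      induction b using Nat.strong_induction_on with | _ b ih => ?_
      intro hb
      obtain ⟨hx1, hcase⟩ := hkill.2 b hb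
      set e := kill.getD b ([], 0, 0)
      cases hm0 : Nat.beq e.2.1 0 with
      | true =>
        simp only [hm0, cond_true, Bool.and_eq_true, Nat.blt_eq] at hcase
        obtain ⟨hcb, hvv, hcj⟩ := hcase
        have hc := lt_trans hcb hb
        have e1 : ev S.el (Data.winv (D := D) e.1) * ev S.el e.1 = 1 := by
          rw [← ev_append]; exact hone' _ hvv
        have e2 := hone' _ hcj
        have h2 : ev S.el ([D.invl e.2.2] ++ Data.winv (D := D) e.1) =
            ev S.el (Data.winv (D := D) e.1) * S.el (D.invl e.2.2) := by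
          rw [ev_append]; show _ * (1 * S.el (D.invl e.2.2)) = _; rw [one_mul]
        have h3 : ev S.el [b] = S.el b := one_mul _
        rw [ev_append, ev_append, h2, h3] at e2
        have hq : QuotientGroup.mk' N (S.el e.2.2) = 1 := (QuotientGroup.eq_one_iff _).mpr (ih _ hcb hc)
        have hqi : QuotientGroup.mk' N (S.el (D.invl e.2.2)) = 1 := by
          have := congrArg (QuotientGroup.mk' N) (el_inv hgens hl _ hc)
          rwa [map_mul, hq, mul_one, map_one] at this
        refine (QuotientGroup.eq_one_iff _).mp ?_
        have h4 := congrArg (QuotientGroup.mk' N) e2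
        rw [map_mul, map_mul, map_mul, hqi, mul_one, ← map_mul, e1, map_one, one_mul] at h4
        exact h4
      | false =>
      simp only [hm0, cond_false, Bool.and_eq_true, beq_iff] at hcase
      obtain ⟨hx2, hx3, hx4, hgcd⟩ := hcase
      have hxp : ev S.el e.1 ^ p = 1 := by rw [← ev_wpow]; exact hone' _ hx2
      have hxm : (ev S.el e.1 * S.el b) ^ e.2.1 = 1 := by
        have := hone' _ hx3
        rw [ev_wpow] at this
        have h2 : ev S.el ([b] ++ e.1) = ev S.el e.1 * S.el b := by
          rw [ev_append]; show _ * (1 * S.el b) = _; rw [one_mul]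
        rwa [h2] at this
      have hbo : S.el b ^ e.2.2 = 1 := by
        have := hone' _ hx4
        rw [ev_wpow] at this
        have h2 : ev S.el [b] = S.el b := one_mul _
        rwa [h2] at this
      rw [← QuotientGroup.eq_one_iff]
      set q := QuotientGroup.mk' N
      have hqx : q (ev S.el e.1) = 1 := by
        have h1 : q (ev S.el e.1) ^ p = 1 := by rw [← map_pow, hxp, map_one]
        have h2 : q (ev S.el e.1) ^ N.index = 1 := by rw [Subgroup.index]; exact pow_card_eq_one'
        have h3 : p.Coprime N.index := hp'.coprime_iff_not_dvd.mpr hpN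
        have : q (ev S.el e.1) ^ Nat.gcd p N.index = 1 := pow_gcd_eq_one.mpr ⟨h1, h2⟩
        rwa [h3.gcd_eq_one, pow_one] at this
      have h4 : q (S.el b) ^ e.2.1 = 1 := by
        have := congrArg q hxm
        rwa [map_pow, map_mul, hqx, one_mul, map_one] at this
      have h5 : q (S.el b) ^ e.2.2 = 1 := by rw [← map_pow, hbo, map_one]
      have : q (S.el b) ^ Nat.gcd e.2.1 e.2.2 = 1 := pow_gcd_eq_one.mpr ⟨h4, h5⟩
      rwa [hgcd, pow_one] at this
    rw [eq_top_iff, ← closure_el hgens hl, Subgroup.closure_le]
    rintro _ ⟨b, rfl⟩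
    exact hmem b b.2

end Setup

end Cfsg.Agent.CosetEnum
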