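/-
Convenience bundle: a table of the whole group on the cosets of a subgroup with one derived subgroup word per seed.
Main results: `Setup.Table`, `Setup.Table.index`, `Setup.Table.orbit`.
-/
import Cfsg.Agent.Lib.CosetEnum.Simple

set_option autoImplicit false

namespace Cfsg.Agent.CosetEnum

open Data

namespace Setup

variable {Gen : Type} [DecidableEq Gen]

/-- Checks for a derivation used at the top level. -/
noncomputable def seedOK (S : Setup Gen) (D0 : Data) (emb : List ℕ) (hs : List (FreeGroup Gen)) (T : Deriv) :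
    Bool :=
  ((List.range T.k).all fun a => Nat.blt (emb.getD a 0) D0.k &&
      Nat.beq (emb.getD (T.invl a) 0) (D0.invl (emb.getD a 0))) &&
  ((T.rels.all fun w => (S.allRels.map (S.wl D0)).contains (w.map fun a => emb.getD a 0) ||
      ([] :: (List.range T.k).map fun a => [a, T.invl a]).contains w) &&
    (T.subs.all fun w => (hs.map (S.wl D0)).contains (w.map fun a => emb.getD a 0)))

theorem seed_fixes {S : Setup Gen} {D0 : Data} (hgens : ∀ x, x ∈ S.gens) (hl : S.lettersOK D0 = true)
    {emb : List ℕ} {hs : List (FreeGroup Gen)} {T : Deriv} (hT : T.check = true)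
    (h : seedOK S D0 emb hs T = true) :
    ev (fun a => S.el (emb.getD a 0)) T.tgt • ((1 : S.G) : S.G ⧸ S.closureOf hs)
      = ((1 : S.G) : S.G ⧸ S.closureOf hs) := by
  unfold seedOK at h
  simp only [Bool.and_eq_true] at h
  exact deriv_fixes hgens hl hs T hT emb h.1 h.2.1 [] (fun _ hw => by simp at hw) (by simpa using h.2.2)

/-- Checks for a derivation that may also use words known to fix the base coset. -/
noncomputable def seedOKExt (S : Setup Gen) (D0 : Data) (emb : List ℕ) (hs : List (FreeGroup Gen))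
    (ext : List (List ℕ)) (T : Deriv) : Bool :=
  ((List.range T.k).all fun a => Nat.blt (emb.getD a 0) D0.k &&
      Nat.beq (emb.getD (T.invl a) 0) (D0.invl (emb.getD a 0))) &&
  ((T.rels.all fun w => (S.allRels.map (S.wl D0)).contains (w.map fun a => emb.getD a 0) ||
      ([] :: (List.range T.k).map fun a => [a, T.invl a]).contains w) &&
    (T.subs.all fun w => ext.contains w || (hs.map (S.wl D0)).contains (w.map fun a => emb.getD a 0)))

theorem seed_fixes_ext {S : Setup Gen} {D0 : Data} (hgens : ∀ x, x ∈ S.gens) (hl : S.lettersOK D0 = true)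
    {emb : List ℕ} {hs : List (FreeGroup Gen)} {T : Deriv} (hT : T.check = true) (ext : List (List ℕ))
    (hext : ∀ w ∈ ext, ev (fun a => S.el (emb.getD a 0)) w • ((1 : S.G) : S.G ⧸ S.closureOf hs)
      = ((1 : S.G) : S.G ⧸ S.closureOf hs))
    (h : seedOKExt S D0 emb hs ext T = true) :
    ev (fun a => S.el (emb.getD a 0)) T.tgt • ((1 : S.G) : S.G ⧸ S.closureOf hs)
      = ((1 : S.G) : S.G ⧸ S.closureOf hs) := by
  unfold seedOKExt at h
  simp only [Bool.and_eq_true] at h
  exact deriv_fixes hgens hl hs T hT emb h.1 h.2.1 ext hext h.2.2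

theorem ev_congr {M : Type*} [Group M] {f g : ℕ → M} : ∀ w : List ℕ, (∀ a ∈ w, f a = g a) → ev f w = ev g w
  | [], _ => rfl
  | a :: v, h => by
    show ev f v * f a = ev g v * g a
    rw [ev_congr v (fun b hb => h b (List.mem_cons_of_mem a hb)), h a List.mem_cons_self]

/-- A derivation whose letters are all letters. -/
theorem seed_fixes_id {S : Setup Gen} {D0 : Data} (hgens : ∀ x, x ∈ S.gens) (hl : S.lettersOK D0 = true)
    {hs : List (FreeGroup Gen)} {T : Deriv} (hT : T.check = true)
    (h : (seedOK S D0 (List.range D0.k) hs T && T.tgt.all fun a => Nat.blt a D0.k) = true) :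
    ev S.el T.tgt • ((1 : S.G) : S.G ⧸ S.closureOf hs) = ((1 : S.G) : S.G ⧸ S.closureOf hs) := by
  simp only [Bool.and_eq_true, List.all_eq_true, Nat.blt_eq] at h
  have h2 := seed_fixes hgens hl hT h.1
  have e : ev (fun a => S.el ((List.range D0.k).getD a 0)) T.tgt = ev S.el T.tgt := by
    refine ev_congr _ fun a ha => ?_
    rw [List.getD_eq_getElem?_getD, List.getElem?_range (h.2 a ha)]
    rfl
  rwa [e] at h2

/-- A derivation using earlier ones, all letters in place. -/
theorem seed_fixes_id_ext {S : Setup Gen} {D0 : Data} (hgens : ∀ x, x ∈ S.gens) (hl : S.lettersOK D0 = true)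
    {hs : List (FreeGroup Gen)} {T : Deriv} (hT : T.check = true) (ext : List (List ℕ))
    (hext : ∀ w ∈ ext, ev S.el w • ((1 : S.G) : S.G ⧸ S.closureOf hs) = ((1 : S.G) : S.G ⧸ S.closureOf hs))
    (h : (seedOKExt S D0 (List.range D0.k) hs ext T && (T.tgt.all (fun a => Nat.blt a D0.k) &&
      ext.all fun w => w.all fun a => Nat.blt a D0.k)) = true) :
    ev S.el T.tgt • ((1 : S.G) : S.G ⧸ S.closureOf hs) = ((1 : S.G) : S.G ⧸ S.closureOf hs) := by
  simp only [Bool.and_eq_true, List.all_eq_true, Nat.blt_eq] at h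
  have e : ∀ v : List ℕ, (∀ a ∈ v, a < D0.k) →
      ev (fun a => S.el ((List.range D0.k).getD a 0)) v = ev S.el v := fun v hv => by
    refine ev_congr _ fun a ha => ?_
    rw [List.getD_eq_getElem?_getD, List.getElem?_range (hv a ha)]
    rfl
  have h2 := seed_fixes_ext hgens hl hT ext (fun w hw => by rw [e w (h.2.2 w hw)]; exact hext w hw) h.1
  rwa [e T.tgt h.2.1] at h2

/-- A derivation over the trivial subgroup proves a relation. -/
theorem seed_eq_one {S : Setup Gen} {D0 : Data} (hgens : ∀ x, x ∈ S.gens) (hl : S.lettersOK D0 = true)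
    {emb : List ℕ} {T : Deriv} (hT : T.check = true) (h : seedOK S D0 emb [] T = true)
    (emb' : List ℕ) (w : List ℕ)
    (hw : (w.map fun a => emb'.getD a 0) = T.tgt.map fun a => emb.getD a 0) :
    ev (fun a => S.el (emb'.getD a 0)) w = 1 := by
  have h2 := seed_fixes hgens hl hT h
  rw [← ev_map S.el (fun a => emb'.getD a 0) w, hw, ev_map S.el (fun a => emb.getD a 0)]
  have h3 := QuotientGroup.eq.mp h2
  simpa [closureOf_nil] using h3

/-- All the checks on a top level table. -/
noncomputable def tableOK (S : Setup Gen) (D : Data) (hs : List (FreeGroup Gen)) (ext : List (List ℕ)) : Bool :=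
  S.lettersOK D && (S.relsOK D && (S.subOK D hs && S.srcOK D hs ext))

/-- A verified table of `S.G` on the cosets of `closureOf hs`. -/
structure Table (S : Setup Gen) (D : Data) (hs : List (FreeGroup Gen)) : Prop where
  gens : ∀ x, x ∈ S.gens
  letters : S.lettersOK D = true
  check : D.check = true
  rels : S.relsOK D = true
  perm : D.PermFacts
  subs : S.subOK D hs = true
  src : ∃ ext : List (List ℕ), S.srcOK D hs ext = true ∧
    ∀ w ∈ ext, ev S.el w • ((1 : S.G) : S.G ⧸ S.closureOf hs) = ((1 : S.G) : S.G ⧸ S.closureOf hs)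

theorem Table.mk' {S : Setup Gen} {D : Data} {hs : List (FreeGroup Gen)} {ext : List (List ℕ)}
    (hgens : ∀ x, x ∈ S.gens) (hc : D.check = true) (hok : tableOK S D hs ext = true)
    (hext : ∀ w ∈ ext, ev S.el w • ((1 : S.G) : S.G ⧸ S.closureOf hs) = ((1 : S.G) : S.G ⧸ S.closureOf hs)) :
    Table S D hs := by
  unfold tableOK at hok
  simp only [Bool.and_eq_true] at hok
  have hp : D.PermFacts := permFacts (by
    unfold Data.check at hc
    simp only [Bool.and_eq_true] at hc
    exact hc.1)
  exact ⟨hgens, hok.1, hc, hok.2.1, hp, hok.2.2.1, ext, hok.2.2.2, hext⟩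

theorem Table.index {S : Setup Gen} {D : Data} {hs : List (FreeGroup Gen)} (T : Table S D hs) :
    (S.closureOf hs).index = D.n := by
  obtain ⟨ext, hsrc, hext⟩ := T.src
  exact index_eq T.gens T.letters T.check T.rels T.subs hsrc _ rfl hext

/-- An orbit of the subgroup on its cosets, as the image of the mask under the equivariant bijection. -/
theorem Table.orbit {S : Setup Gen} {D : Data} {hs : List (FreeGroup Gen)} (T : Table S D hs) :
    ∃ e : Fin D.n ≃ S.G ⧸ S.closureOf hs, ∀ O : OrbitData, D.reachOK O = true → D.invariantOK O = true →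
      O.words = hs.map (S.wl D) → ∃ q, (MulAction.orbit (S.closureOf hs) q).ncard = O.size ∧
        MulAction.orbit (S.closureOf hs) q = e '' {i | (i : ℕ) ∈ Data.maskSet D O} := by
  obtain ⟨ext, hsrc, hext⟩ := T.src
  refine ⟨(exists_equiv T.gens T.letters T.check T.rels T.perm T.subs hsrc _ rfl hext).choose,
    fun O h1 h2 h3 => ?_⟩
  obtain ⟨q, e, hq, hq', rfl⟩ :=
    orbit_ncard T.gens T.letters T.check T.rels T.perm T.subs hsrc _ rfl hext O h1 h2 h3
  exact ⟨q, hq, hq'⟩

theorem closureOf_eq (S : Setup Gen) (hs : List (FreeGroup Gen)) (s : Set (FreeGroup Gen))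
    (h : s = {r | r ∈ hs}) : (Subgroup.closure s).map (PresentedGroup.mk S.rels) = S.closureOf hs := by
  rw [h, MonoidHom.map_closure]
  rfl

/-- The word of one level fixes the earlier roots. -/
noncomputable def fixRootsOK (D : Data) (O : OrbitData) (roots : List ℕ) : Bool :=
  O.words.all fun w => roots.all fun b => Nat.beq (lane D.B (D.trace w) b) b

theorem chainOK_nil (D : Data) (roots : List ℕ) : chainOK D [] roots = true := rfl

theorem chainOK_cons {D : Data} {O : OrbitData} {l : List OrbitData} {roots : List ℕ} (h₁ : D.reachOK O = true)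
    (h₂ : fixRootsOK D O roots = true) (h₃ : chainOK D l (O.root :: roots) = true) :
    chainOK D (O :: l) roots = true := by
  show (D.reachOK O && (fixRootsOK D O roots && chainOK D l (O.root :: roots))) = true
  rw [h₁, h₂, h₃]
  rfl

/-- A run of relators is closed. -/
noncomputable def relsChunkOK (S : Setup Gen) (D : Data) (lo m : ℕ) : Bool :=
  ((S.allRels.drop lo).take m).all fun r => D.closed (S.wl D r)

theorem relsChunk_append {S : Setup Gen} {D : Data} {lo m m' : ℕ} (h₁ : relsChunkOK S D lo m = true)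
    (h₂ : relsChunkOK S D (lo + m) m' = true) : relsChunkOK S D lo (m + m') = true := by
  unfold relsChunkOK at *
  rw [List.take_add, List.all_append, h₁, List.drop_drop, h₂]
  rfl

theorem relsOK_of_chunk {S : Setup Gen} {D : Data} {m : ℕ} (h : relsChunkOK S D 0 m = true)
    (hm : Nat.ble S.allRels.length m = true) : S.relsOK D = true := by
  unfold relsChunkOK at h
  rw [List.drop_zero, List.take_of_length_le (Nat.le_of_ble_eq_true hm)] at h
  exact h

theorem Table.mk'' {S : Setup Gen} {D : Data} {hs : List (FreeGroup Gen)} {ext : List (List ℕ)}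
    (hgens : ∀ x, x ∈ S.gens) (hc : D.check = true) (hl : S.lettersOK D = true) (hr : S.relsOK D = true)
    (hsub : S.subOK D hs = true) (hsrc : S.srcOK D hs ext = true)
    (hext : ∀ w ∈ ext, ev S.el w • ((1 : S.G) : S.G ⧸ S.closureOf hs) = ((1 : S.G) : S.G ⧸ S.closureOf hs)) :
    Table S D hs := by
  have hp : D.PermFacts := permFacts (by
    unfold Data.check at hc
    simp only [Bool.and_eq_true] at hc
    exact hc.1)
  exact ⟨hgens, hl, hc, hr, hp, hsub, ext, hsrc, hext⟩

theorem bound_nil (S : Setup Gen) :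
    Nat.card (S.closureOf []) ≤ 1 ∧ Nat.card (S.closureOf []) ≠ 0 := by
  rw [closureOf_nil, Subgroup.card_bot]
  exact ⟨le_rfl, one_ne_zero⟩

theorem bound_closure {S : Setup Gen} {D0 : Data} (hgens : ∀ x, x ∈ S.gens) (hl : S.lettersOK D0 = true)
    {emb : List ℕ} {hs : List (FreeGroup Gen)} {c : ℕ}
    (h : Nat.card (S.letterGroup emb) ≤ c ∧ Nat.card (S.letterGroup emb) ≠ 0)
    (hin : S.wordsIn D0 emb hs = true) : Nat.card (S.closureOf hs) ≤ c ∧ Nat.card (S.closureOf hs) ≠ 0 := by
  have hle := closureOf_le hgens hl hin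
  haveI : Finite (S.letterGroup emb) := Nat.finite_of_card_ne_zero h.2
  haveI : Finite (S.closureOf hs) := Finite.of_injective _ (Subgroup.inclusion_injective hle)
  exact ⟨le_trans (Nat.card_le_card_of_injective _ (Subgroup.inclusion_injective hle)) h.1, Nat.card_pos.ne'⟩

theorem bound_univ {S : Setup Gen} {D0 : Data} (hgens : ∀ x, x ∈ S.gens) (hl : S.lettersOK D0 = true)
    {emb : List ℕ} {c : ℕ} (h : Nat.card (S.letterGroup emb) ≤ c ∧ Nat.card (S.letterGroup emb) ≠ 0)
    (hall : ((List.range D0.k).all fun a => emb.contains a) = true) :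
    Nat.card S.G ≤ c ∧ Nat.card S.G ≠ 0 := by
  have htop : S.letterGroup emb = ⊤ := by
    rw [eq_top_iff, ← closure_el hgens hl, letterGroup, Subgroup.closure_le]
    rintro _ ⟨a, rfl⟩
    refine Subgroup.subset_closure ⟨a, ?_, rfl⟩
    have := List.all_eq_true.mp hall (a : ℕ) (List.mem_range.mpr a.2)
    simpa using this
  rwa [htop, Subgroup.card_top] at h

end Setup

end Cfsg.Agent.CosetEnum
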