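/-
Packed vectors of natural numbers for fast kernel computation with GMP-accelerated operations.
`pack B N f` holds the values `f i` (`i < N`) in lanes of width `B`.
Main results: `testBit_pack`, `pack_add`, `pack_land/lor/xor`, `pack_shr`, `pack_shl`, `pack_lane`,
`rep_eq`, `ramp_eq`, `vmax_eq`, `vlt_eq`.
-/
import Cfsg.Agent.EqLemmas

set_option autoImplicit false

namespace Cfsg.Agent.CosetEnum

/-- Forces the evaluation of `v` to a literal in the kernel before calling `f`. -/
noncomputable def force {α : Sort _} (v : ℕ) (f : ℕ → α) : α :=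
  Nat.rec (motive := fun _ => α) (f 0) (fun k _ => f (Nat.succ k)) v

theorem force_eq {α : Sort _} (v : ℕ) (f : ℕ → α) : force v f = f v := by
  cases v <;> rfl

/-- Packed vector. -/
def pack (B : ℕ) : ℕ → (ℕ → ℕ) → ℕ
  | 0, _ => 0
  | N + 1, f => f 0 + 2 ^ B * pack B N (fun i => f (i + 1))

/-- Lane `i` of a packed vector. -/
noncomputable def lane (B V i : ℕ) : ℕ :=
  Nat.land (Nat.shiftRight V (Nat.mul i B)) (Nat.sub (Nat.shiftLeft 1 B) 1)

theorem lane_def (B V i : ℕ) : lane B V i = (V >>> (i * B)) &&& (2 ^ B - 1) := by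
  have h : Nat.shiftLeft 1 B = 2 ^ B := Nat.one_shiftLeft B
  show Nat.land (V >>> (i * B)) (Nat.shiftLeft 1 B - 1) = _
  rw [h]
  rfl

theorem lane_lt (B V i : ℕ) : lane B V i < 2 ^ B := by
  rw [lane_def, Nat.and_two_pow_sub_one_eq_mod]
  exact Nat.mod_lt _ (Nat.two_pow_pos B)

theorem pack_congr {B : ℕ} : ∀ {N : ℕ} {f g : ℕ → ℕ}, (∀ i < N, f i = g i) → pack B N f = pack B N g
  | 0, _, _, _ => rfl
  | N + 1, f, g, h => by
    simp only [pack]
    rw [h 0 (Nat.succ_pos N), pack_congr (N := N) (fun i hi => h (i + 1) (by omega))]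

theorem pack_lt {B : ℕ} : ∀ {N : ℕ} {f : ℕ → ℕ}, (∀ i < N, f i < 2 ^ B) → pack B N f < 2 ^ (N * B)
  | 0, _, _ => by simp [pack]
  | N + 1, f, h => by
    simp only [pack]
    have h0 := h 0 (Nat.succ_pos N)
    have h1 := pack_lt (N := N) (f := fun i => f (i + 1)) (fun i hi => h (i + 1) (by omega))
    have : 2 ^ ((N + 1) * B) = 2 ^ B * 2 ^ (N * B) := by rw [← pow_add]; ring_nf
    rw [this]
    calc f 0 + 2 ^ B * pack B N (fun i => f (i + 1)) < 2 ^ B + 2 ^ B * pack B N (fun i => f (i + 1)) := by omega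
      _ = 2 ^ B * (pack B N (fun i => f (i + 1)) + 1) := by ring
      _ ≤ 2 ^ B * 2 ^ (N * B) := Nat.mul_le_mul_left _ h1

theorem testBit_pack {B : ℕ} (hB : 0 < B) : ∀ {N : ℕ} {f : ℕ → ℕ}, (∀ i < N, f i < 2 ^ B) → ∀ k,
    (pack B N f).testBit k = (decide (k / B < N) && (f (k / B)).testBit (k % B))
  | 0, _, _, k => by simp [pack]
  | N + 1, f, h, k => by
    simp only [pack]
    rw [Nat.add_comm (f 0), Nat.testBit_two_pow_mul_add _ (h 0 (Nat.succ_pos N))]
    by_cases hk : k < B
    · simp [hk, Nat.div_eq_of_lt hk, Nat.mod_eq_of_lt hk]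
    · rw [if_neg hk, testBit_pack hB (N := N) (fun i hi => h (i + 1) (by omega))]
      have hk' : B ≤ k := Nat.le_of_not_lt hk
      have h1 : k / B = (k - B) / B + 1 := by
        rw [Nat.div_eq_sub_div hB hk']
      have h2 : k % B = (k - B) % B := Nat.mod_eq_sub_mod hk'
      rw [h1, h2]
      simp

theorem pack_add {B : ℕ} : ∀ {N : ℕ} (f g : ℕ → ℕ),
    pack B N f + pack B N g = pack B N (fun i => f i + g i)
  | 0, _, _ => by simp [pack]
  | N + 1, f, g => by
    simp only [pack]
    rw [← pack_add (N := N)]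
    ring

theorem pack_mul {B : ℕ} : ∀ {N : ℕ} (f : ℕ → ℕ) (c : ℕ),
    pack B N f * c = pack B N (fun i => f i * c)
  | 0, _, _ => by simp [pack]
  | N + 1, f, c => by
    simp only [pack]
    rw [← pack_mul (N := N) (fun i => f (i + 1)) c]
    ring

theorem pack_sub {B N : ℕ} (f g : ℕ → ℕ) (h : ∀ i < N, g i ≤ f i) :
    pack B N f - pack B N g = pack B N (fun i => f i - g i) := by
  have : pack B N f = pack B N (fun i => f i - g i) + pack B N g := by
    rw [pack_add]
    exact pack_congr fun i hi => (Nat.sub_add_cancel (h i hi)).symm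
  omega

theorem pack_zero {B : ℕ} : ∀ {N : ℕ}, pack B N (fun _ => 0) = 0
  | 0 => rfl
  | N + 1 => by
    simp only [pack, pack_zero (N := N), Nat.mul_zero]

theorem pack_append {B : ℕ} : ∀ (M : ℕ) {N : ℕ} (f : ℕ → ℕ),
    pack B (M + N) f = pack B M f + 2 ^ (M * B) * pack B N (fun i => f (M + i))
  | 0, N, f => by simp [pack]
  | M + 1, N, f => by
    rw [Nat.add_right_comm]
    simp only [pack]
    rw [pack_append M (N := N)]
    have : (fun i => f (M + i + 1)) = fun i => f (M + 1 + i) := by funext i; congr 1; omega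
    rw [this]
    ring

section bitwise

variable {B N : ℕ} {f g : ℕ → ℕ}

theorem pack_land (hB : 0 < B) (hf : ∀ i < N, f i < 2 ^ B) (hg : ∀ i < N, g i < 2 ^ B) :
    pack B N f &&& pack B N g = pack B N (fun i => f i &&& g i) := by
  refine Nat.eq_of_testBit_eq fun k => ?_
  rw [Nat.testBit_land, testBit_pack hB hf, testBit_pack hB hg,
    testBit_pack hB (fun i hi => Nat.and_lt_two_pow _ (hg i hi)), Nat.testBit_land]
  by_cases h : k / B < N <;> simp [h]

theorem pack_lor (hB : 0 < B) (hf : ∀ i < N, f i < 2 ^ B) (hg : ∀ i < N, g i < 2 ^ B) :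
    pack B N f ||| pack B N g = pack B N (fun i => f i ||| g i) := by
  refine Nat.eq_of_testBit_eq fun k => ?_
  rw [Nat.testBit_lor, testBit_pack hB hf, testBit_pack hB hg,
    testBit_pack hB (fun i hi => Nat.or_lt_two_pow (hf i hi) (hg i hi)), Nat.testBit_lor]
  by_cases h : k / B < N <;> simp [h]

theorem pack_xor (hB : 0 < B) (hf : ∀ i < N, f i < 2 ^ B) (hg : ∀ i < N, g i < 2 ^ B) :
    pack B N f ^^^ pack B N g = pack B N (fun i => f i ^^^ g i) := by
  refine Nat.eq_of_testBit_eq fun k => ?_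
  rw [Nat.testBit_xor, testBit_pack hB hf, testBit_pack hB hg,
    testBit_pack hB (fun i hi => Nat.xor_lt_two_pow (hf i hi) (hg i hi)), Nat.testBit_xor]
  by_cases h : k / B < N <;> simp [h]

theorem pack_shr (hB : 0 < B) (hf : ∀ i < N, f i < 2 ^ B) (s : ℕ) :
    pack B N f >>> (s * B) = pack B N (fun i => if i + s < N then f (i + s) else 0) := by
  refine Nat.eq_of_testBit_eq fun k => ?_
  rw [Nat.testBit_shiftRight, testBit_pack hB hf, testBit_pack hB
    (fun i _ => by split <;> [exact hf _ ‹_›; exact Nat.two_pow_pos B])]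
  rw [Nat.add_comm (s * B), Nat.add_mul_div_right _ _ hB, Nat.add_mul_mod_self_right]
  by_cases h : k / B + s < N
  · have : k / B < N := by omega
    simp [h, this]
  · simp [h]

theorem pack_shl (hB : 0 < B) (hf : ∀ i < N, f i < 2 ^ B) (s : ℕ) (hz : ∀ i < N, N ≤ i + s → f i = 0) :
    pack B N f <<< (s * B) = pack B N (fun i => if s ≤ i then f (i - s) else 0) := by
  refine Nat.eq_of_testBit_eq fun k => ?_
  have hbd : ∀ i < N, (if s ≤ i then f (i - s) else 0) < 2 ^ B := fun i hi => by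
    split
    · exact hf _ (by omega)
    · exact Nat.two_pow_pos B
  rw [Nat.testBit_shiftLeft, testBit_pack hB hf, testBit_pack hB hbd]
  by_cases hk : s * B ≤ k
  · have hs : s ≤ k / B := (Nat.le_div_iff_mul_le hB).mpr hk
    have hk'' : B * s ≤ k := by rw [Nat.mul_comm]; exact hk
    have h1 : (k - s * B) / B = k / B - s := by
      rw [Nat.mul_comm s B]
      exact Nat.sub_mul_div_of_le _ _ _ hk''
    have h2 : (k - s * B) % B = k % B := by
      rw [Nat.mul_comm s B]
      exact Nat.sub_mul_mod hk''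
    rw [h1, h2]
    by_cases h : k / B < N
    · have : k / B - s < N := by omega
      simp [h, hk, hs, this]
    · simp only [hk, hs, h, decide_true, decide_false, Bool.true_and, Bool.false_and]
      by_cases h' : k / B - s < N
      · have := hz _ h' (by omega)
        simp [this]
      · simp [h']
  · have hs : ¬ s ≤ k / B := fun hs => hk ((Nat.le_div_iff_mul_le hB).mp hs)
    simp [hk, hs]

theorem lane_pack (hB : 0 < B) (hf : ∀ i < N, f i < 2 ^ B) {i : ℕ} (hi : i < N) :
    lane B (pack B N f) i = f i := by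
  rw [lane_def]
  refine Nat.eq_of_testBit_eq fun k => ?_
  rw [Nat.testBit_land, Nat.testBit_two_pow_sub_one, Nat.testBit_shiftRight]
  by_cases hk : k < B
  · rw [testBit_pack hB hf, Nat.add_comm (i * B), Nat.add_mul_div_right _ _ hB, Nat.add_mul_mod_self_right,
      Nat.div_eq_of_lt hk, Nat.mod_eq_of_lt hk]
    simp [hk, hi]
  · simp only [hk, decide_false, Bool.and_false]
    exact (Nat.testBit_lt_two_pow (lt_of_lt_of_le (hf i hi) (Nat.pow_le_pow_right (by norm_num) (by omega)))).symm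

theorem pack_inj (hB : 0 < B) (hf : ∀ i < N, f i < 2 ^ B) (hg : ∀ i < N, g i < 2 ^ B)
    (h : pack B N f = pack B N g) : ∀ i < N, f i = g i := fun i hi => by
  rw [← lane_pack hB hf hi, h, lane_pack hB hg hi]

/-- Any number below `2 ^ (N * B)` is the vector of its lanes. -/
theorem pack_lane (hB : 0 < B) {V : ℕ} (hV : V < 2 ^ (N * B)) : pack B N (lane B V) = V := by
  refine Nat.eq_of_testBit_eq fun k => ?_
  rw [testBit_pack hB (fun i _ => lane_lt B V i), lane_def, Nat.testBit_land, Nat.testBit_two_pow_sub_one,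
    Nat.testBit_shiftRight]
  have h0 : k / B * B + k % B = k := by rw [Nat.mul_comm]; exact Nat.div_add_mod k B
  rw [h0]
  by_cases h : k / B < N
  · simp [h, Nat.mod_lt k hB]
  · simp only [h, decide_false, Bool.false_and]
    have : N * B ≤ k := by
      calc N * B ≤ k / B * B := Nat.mul_le_mul_right B (by omega)
        _ ≤ k := Nat.div_mul_le_self k B
    exact (Nat.testBit_lt_two_pow (lt_of_lt_of_le hV (Nat.pow_le_pow_right (by norm_num) this))).symm

end bitwise

/-- Vector of ones with `2 ^ j` lanes. -/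
noncomputable def rep (B : ℕ) : ℕ → ℕ := fun j =>
  Nat.rec (motive := fun _ => ℕ) 1
    (fun j r => force r fun r => Nat.add r (Nat.shiftLeft r (Nat.mul (Nat.shiftLeft 1 j) B))) j

theorem rep_eq (B : ℕ) : ∀ j, rep B j = pack B (2 ^ j) (fun _ => 1)
  | 0 => by simp [rep, pack]
  | j + 1 => by
    show force (rep B j) (fun r => Nat.add r (Nat.shiftLeft r (Nat.mul (Nat.shiftLeft 1 j) B))) = _
    rw [force_eq, rep_eq B j, pow_succ, Nat.mul_two, pack_append]
    show pack B (2 ^ j) (fun _ => 1) + (pack B (2 ^ j) (fun _ => 1)) <<< ((1 <<< j) * B) = _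
    rw [Nat.shiftLeft_eq, Nat.one_shiftLeft]
    ring

/-- The identity vector `i ↦ i` with `2 ^ j` lanes. -/
noncomputable def ramp (B : ℕ) : ℕ → ℕ := fun j =>
  Nat.rec (motive := fun _ => ℕ) 0
    (fun j r => force r fun r => Nat.add r
      (Nat.shiftLeft (Nat.add r (Nat.mul (rep B j) (Nat.shiftLeft 1 j))) (Nat.mul (Nat.shiftLeft 1 j) B))) j

theorem ramp_eq (B : ℕ) : ∀ j, ramp B j = pack B (2 ^ j) (fun i => i)
  | 0 => by simp [ramp, pack]
  | j + 1 => by
    show force (ramp B j) (fun r => Nat.add r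
      (Nat.shiftLeft (Nat.add r (Nat.mul (rep B j) (Nat.shiftLeft 1 j))) (Nat.mul (Nat.shiftLeft 1 j) B))) = _
    rw [force_eq, ramp_eq B j, rep_eq B j, pow_succ, Nat.mul_two, pack_append]
    show pack B (2 ^ j) (fun i => i) + ((pack B (2 ^ j) (fun i => i) + pack B (2 ^ j) (fun _ => 1) * (1 <<< j))
      <<< ((1 <<< j) * B)) = _
    rw [Nat.shiftLeft_eq, Nat.one_shiftLeft, pack_mul, pack_add]
    have : (fun i => i + 1 * 2 ^ j) = fun i => 2 ^ j + i := by funext i; omega
    rw [this]
    ring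

/-- `1` in the lanes below `n`. -/
noncomputable def below (B n one : ℕ) : ℕ := Nat.land one (Nat.sub (Nat.shiftLeft 1 (Nat.mul n B)) 1)

theorem below_eq {B N : ℕ} (hB : 0 < B) (n : ℕ) :
    below B n (pack B N (fun _ => 1)) = pack B N (fun i => if i < n then 1 else 0) := by
  have h1 : ∀ i < N, (fun _ : ℕ => 1) i < 2 ^ B := fun i _ => Nat.one_lt_two_pow (by omega)
  show pack B N (fun _ => 1) &&& (1 <<< (n * B) - 1) = _
  rw [Nat.one_shiftLeft]
  refine Nat.eq_of_testBit_eq fun k => ?_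
  rw [Nat.testBit_land, testBit_pack hB h1, Nat.testBit_two_pow_sub_one,
    testBit_pack hB (fun i hi => by split <;> [exact h1 i hi; exact Nat.two_pow_pos B])]
  by_cases h : k / B < n
  · have : k < n * B := (Nat.div_lt_iff_lt_mul hB).mp h
    simp [h, this]
  · have : ¬ k < n * B := fun hk => h ((Nat.div_lt_iff_lt_mul hB).mpr hk)
    simp [h, this]

/-- `1` in the lanes where `Y ≤ X`; the top bit of each lane of `X`, `Y` must be free. -/
noncomputable def vge (B one X Y : ℕ) : ℕ :=
  force (Nat.shiftLeft one (Nat.sub B 1)) fun G =>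
    Nat.shiftRight (Nat.land (Nat.sub (Nat.lor X G) Y) G) (Nat.sub B 1)

/-- Lanewise maximum. -/
noncomputable def vmax (B one X Y : ℕ) : ℕ :=
  force (vge B one X Y) fun m =>
    Nat.xor Y (Nat.land (Nat.xor X Y) (Nat.mul m (Nat.sub (Nat.shiftLeft 1 (Nat.sub B 1)) 1)))

/-- `1` in the lanes where `X < Y`. -/
noncomputable def vlt (B one X Y : ℕ) : ℕ := Nat.sub one (vge B one X Y)

section guard

variable {B N : ℕ} {f g : ℕ → ℕ}

theorem half_lt (hB : 0 < B) : 2 ^ (B - 1) + 2 ^ (B - 1) = 2 ^ B := by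
  rw [← Nat.two_mul, ← pow_succ']; congr 1; omega

theorem vge_eq (hB : 0 < B) (hf : ∀ i < N, f i < 2 ^ (B - 1)) (hg : ∀ i < N, g i < 2 ^ (B - 1)) :
    vge B (pack B N fun _ => 1) (pack B N f) (pack B N g) = pack B N (fun i => if g i ≤ f i then 1 else 0) := by
  have hh := half_lt hB
  show force ((pack B N fun _ => 1) <<< (B - 1)) (fun G => ((pack B N f ||| G) - pack B N g &&& G) >>> (B - 1)) = _
  rw [force_eq, Nat.shiftLeft_eq, pack_mul]
  simp only [Nat.one_mul]
  have hG : ∀ i < N, (fun _ : ℕ => 2 ^ (B - 1)) i < 2 ^ B := fun _ _ => by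
    have := Nat.two_pow_pos (B - 1); show 2 ^ (B-1) < 2 ^ B; omega
  rw [pack_lor hB (fun i hi => by have := hf i hi; omega) hG]
  have hor : ∀ i < N, f i ||| 2 ^ (B - 1) = f i + 2 ^ (B - 1) := fun i hi => by
    have := Nat.two_pow_add_eq_or_of_lt (hf i hi) 1
    rw [Nat.mul_one] at this
    rw [Nat.lor_comm, ← this, Nat.add_comm]
  rw [pack_congr hor, pack_sub _ _ (fun i hi => by have := hg i hi; omega)]
  rw [pack_land hB (fun i hi => by have := hf i hi; omega) hG]
  have hval : ∀ i < N, (f i + 2 ^ (B - 1) - g i) &&& 2 ^ (B - 1) = (if g i ≤ f i then 1 else 0) * 2 ^ (B - 1) := by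
    intro i hi
    have h1 := hf i hi
    have h2 := hg i hi
    rw [Nat.and_two_pow]
    split
    · have : (f i + 2 ^ (B - 1) - g i).testBit (B - 1) = true := by
        rw [Nat.testBit_eq_decide_div_mod_eq]
        have : (f i + 2 ^ (B - 1) - g i) / 2 ^ (B - 1) = 1 := by
          rw [Nat.div_eq_iff (Nat.two_pow_pos _)]
          omega
        simp [this]
      simp [this]
    · have : (f i + 2 ^ (B - 1) - g i).testBit (B - 1) = false := Nat.testBit_lt_two_pow (by omega)
      simp [this]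
  rw [pack_congr hval, ← pack_mul, Nat.shiftRight_eq_div_pow, Nat.mul_div_cancel _ (Nat.two_pow_pos _)]

theorem vlt_eq (hB : 0 < B) (hf : ∀ i < N, f i < 2 ^ (B - 1)) (hg : ∀ i < N, g i < 2 ^ (B - 1)) :
    vlt B (pack B N fun _ => 1) (pack B N f) (pack B N g) = pack B N (fun i => if f i < g i then 1 else 0) := by
  show pack B N (fun _ => 1) - vge B (pack B N fun _ => 1) (pack B N f) (pack B N g) = _
  rw [vge_eq hB hf hg, pack_sub _ _ (fun i _ => by split <;> omega)]
  exact pack_congr fun i _ => by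
    rcases Nat.lt_or_ge (f i) (g i) with h | h
    · rw [if_neg (by omega), if_pos h]
    · rw [if_pos h, if_neg (by omega)]

theorem vmax_eq (hB : 0 < B) (hf : ∀ i < N, f i < 2 ^ (B - 1)) (hg : ∀ i < N, g i < 2 ^ (B - 1)) :
    vmax B (pack B N fun _ => 1) (pack B N f) (pack B N g) = pack B N (fun i => max (f i) (g i)) := by
  have hh := half_lt hB
  have hf' : ∀ i < N, f i < 2 ^ B := fun i hi => by have := hf i hi; omega
  have hg' : ∀ i < N, g i < 2 ^ B := fun i hi => by have := hg i hi; omega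
  show force (vge B (pack B N fun _ => 1) (pack B N f) (pack B N g))
    (fun m => pack B N g ^^^ ((pack B N f ^^^ pack B N g) &&& m * (1 <<< (B - 1) - 1))) = _
  rw [force_eq, vge_eq hB hf hg, pack_mul, Nat.one_shiftLeft, pack_xor hB hf' hg']
  have hm : ∀ i < N, (if g i ≤ f i then 1 else 0) * (2 ^ (B - 1) - 1) < 2 ^ B := fun i _ => by
    have := Nat.two_pow_pos (B - 1)
    split <;> omega
  rw [pack_land hB (fun i hi => Nat.xor_lt_two_pow (hf' i hi) (hg' i hi)) hm,
    pack_xor hB hg' (fun i hi => Nat.and_lt_two_pow _ (hm i hi))]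
  refine pack_congr fun i hi => ?_
  split
  · rename_i h
    rw [Nat.one_mul, Nat.and_two_pow_sub_one_eq_mod, Nat.mod_eq_of_lt (Nat.xor_lt_two_pow (hf i hi) (hg i hi)),
      Nat.max_eq_left h, Nat.xor_comm (f i), ← Nat.xor_assoc, Nat.xor_self, Nat.zero_xor]
  · rename_i h
    rw [Nat.zero_mul, Nat.and_zero, Nat.xor_zero, Nat.max_eq_right (by omega)]

end guard

end Cfsg.Agent.CosetEnum
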