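/-
Permutation networks on packed vectors: a stage `(s, m)` exchanges lane `i` and lane `i + s` for every lane `i`
marked in `m`.
Main results: `tau` (the permutation of a network), `tau_lt`, `applyNet_eq`.
-/
import Cfsg.Agent.Lib.CosetEnum.Pack

set_option autoImplicit false

namespace Cfsg.Agent.CosetEnum

/-- All ones in one lane. -/
noncomputable def laneMask (B : ℕ) : ℕ := Nat.sub (Nat.shiftLeft 1 B) 1

theorem laneMask_eq (B : ℕ) : laneMask B = 2 ^ B - 1 := by
  show 1 <<< B - 1 = _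
  rw [Nat.one_shiftLeft]

/-- Concatenate a list of `W`-bit chunks. -/
noncomputable def cat (W : ℕ) (l : List ℕ) : ℕ :=
  List.rec (motive := fun _ => ℕ) 0 (fun c _ ih => force ih fun r => Nat.add c (Nat.shiftLeft r W)) l

/-- Blocks of `h` ones with period `h * B`, `c` of them. -/
noncomputable def blockMask (h B c : ℕ) : ℕ :=
  Nat.mul (Nat.sub (Nat.shiftLeft 1 h) 1)
    (Nat.div (Nat.sub (Nat.shiftLeft 1 (Nat.mul (Nat.mul h B) c)) 1) (Nat.sub (Nat.shiftLeft 1 (Nat.mul h B)) 1))

/-- Moves bit `i` of a `2 ^ lg`-bit number to bit `i * B`. Nothing is proved about it: its results are checked. -/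
noncomputable def spread (B : ℕ) (lg : ℕ) (x : ℕ) : ℕ :=
  Nat.rec (motive := fun _ => ℕ → ℕ → ℕ) (fun _ x => x)
    (fun j ih c x => force (Nat.land
      (Nat.lor x (Nat.shiftLeft x (Nat.mul (Nat.shiftLeft 1 j) (Nat.sub B 1))))
      (blockMask (Nat.shiftLeft 1 j) B c)) fun x => ih (Nat.mul 2 c) x) lg 2 x

/-- One stage. -/
noncomputable def stage (B : ℕ) (st : ℕ × ℕ) (V : ℕ) : ℕ :=
  force (Nat.land (Nat.xor V (Nat.shiftRight V (Nat.mul st.1 B))) (Nat.mul st.2 (laneMask B))) fun t =>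
    Nat.xor V (Nat.xor t (Nat.shiftLeft t (Nat.mul st.1 B)))

/-- Apply the stages in order. -/
noncomputable def applyNet (B : ℕ) (l : List (ℕ × ℕ)) : ℕ → ℕ :=
  List.rec (motive := fun _ => ℕ → ℕ) (fun V => V) (fun st _ ih V => force (stage B st V) fun V => ih V) l

theorem applyNet_nil (B V : ℕ) : applyNet B [] V = V := rfl

theorem applyNet_cons (B : ℕ) (st : ℕ × ℕ) (l : List (ℕ × ℕ)) (V : ℕ) :
    applyNet B (st :: l) V = applyNet B l (stage B st V) := by
  show force (stage B st V) (fun V => applyNet B l V) = _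
  rw [force_eq]

/-- Validity of a stage. -/
noncomputable def stageOK (B lg : ℕ) (st : ℕ × ℕ) : Bool :=
  force st.2 fun m =>
    Nat.ble st.1 (Nat.shiftLeft 1 lg) && (Nat.beq (Nat.land m (rep B lg)) m &&
      (Nat.beq (Nat.shiftRight m (Nat.mul (Nat.sub (Nat.shiftLeft 1 lg) st.1) B)) 0 &&
        Nat.beq (Nat.land m (Nat.shiftLeft m (Nat.mul st.1 B))) 0))

/-- Validity of a network. -/
noncomputable def netOK (B lg : ℕ) (l : List (ℕ × ℕ)) : Bool :=
  List.rec (motive := fun _ => Bool) true (fun st _ ih => stageOK B lg st && ih) l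

/-- The permutation of lanes of a network. -/
noncomputable def tau (B lg : ℕ) (l : List (ℕ × ℕ)) (i : ℕ) : ℕ := lane B (applyNet B l (ramp B lg)) i

theorem beq_iff {a b : ℕ} : Nat.beq a b = true ↔ a = b :=
  ⟨Nat.eq_of_beq_eq_true, fun h => by subst h; exact Nat.beq_refl a⟩

theorem mask_zero_one {B N : ℕ} (hB : 0 < B) {m : ℕ} (h : m &&& pack B N (fun _ => 1) = m) :
    m = pack B N (lane B m) ∧ ∀ i < N, lane B m i = 0 ∨ lane B m i = 1 := by
  have h1 : ∀ i < N, (fun _ : ℕ => 1) i < 2 ^ B := fun i _ => Nat.one_lt_two_pow (by omega)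
  have hm : m < 2 ^ (N * B) := by
    rw [← h]; exact Nat.and_lt_two_pow _ (pack_lt h1)
  have hp := pack_lane hB hm
  refine ⟨hp.symm, fun i hi => ?_⟩
  have : pack B N (fun i => lane B m i &&& 1) = pack B N (lane B m) := by
    rw [← pack_land hB (fun i _ => lane_lt B m i) h1, hp, h]
  have h2 := pack_inj hB (fun i _ => lt_of_le_of_lt Nat.and_le_left (lane_lt B m i))
    (fun i _ => lane_lt B m i) this i hi
  rw [Nat.and_one_is_mod] at h2
  omega

theorem stage_spec {B lg : ℕ} (hB : 0 < B) {st : ℕ × ℕ} (hok : stageOK B lg st = true) :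
    ∃ π : ℕ → ℕ, (∀ i < 2 ^ lg, π i < 2 ^ lg) ∧ ∀ f : ℕ → ℕ, (∀ i < 2 ^ lg, f i < 2 ^ B) →
      stage B st (pack B (2 ^ lg) f) = pack B (2 ^ lg) (fun i => f (π i)) := by
  obtain ⟨s, m⟩ := st
  unfold stageOK at hok
  rw [force_eq] at hok
  simp only [Bool.and_eq_true, beq_iff, Nat.ble_eq] at hok
  obtain ⟨hs, hm1, hm2, hm3⟩ := hok
  have hlg : Nat.shiftLeft 1 lg = 2 ^ lg := Nat.one_shiftLeft lg
  rw [hlg] at hs hm2
  change m &&& rep B lg = m at hm1
  change m >>> ((2 ^ lg - s) * B) = 0 at hm2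
  change m &&& m <<< (s * B) = 0 at hm3
  rw [rep_eq] at hm1
  set N := 2 ^ lg with hN
  obtain ⟨hm, h01⟩ := mask_zero_one hB hm1
  set μ := lane B m with hμ
  have hμb : ∀ i < N, μ i < 2 ^ B := fun i _ => lane_lt B m i
  have hz : ∀ i < N, N ≤ i + s → μ i = 0 := by
    intro i hi his
    rw [hm, pack_shr hB hμb] at hm2
    have hb : ∀ j < N, (if j + (N - s) < N then μ (j + (N - s)) else 0) < 2 ^ B := fun j _ => by
      split
      · exact lane_lt B m _
      · exact Nat.two_pow_pos B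
    have h := pack_inj hB hb (fun _ _ => Nat.two_pow_pos B) (hm2.trans pack_zero.symm) (i - (N - s)) (by omega)
    have e : i - (N - s) + (N - s) = i := by omega
    rw [if_pos (by omega), e] at h
    exact h
  have hdis : ∀ i < N, s ≤ i → μ i = 1 → μ (i - s) = 0 := by
    intro i hi hsi h1
    rw [hm, pack_shl hB hμb s hz, pack_land hB hμb (fun j hj => by
      split
      · exact hμb _ (by omega)
      · exact Nat.two_pow_pos B)] at hm3
    have h := pack_inj hB (fun j hj => lt_of_le_of_lt Nat.and_le_left (hμb j hj))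
      (fun _ _ => Nat.two_pow_pos B) (hm3.trans pack_zero.symm) i hi
    rw [if_pos hsi, h1] at h
    rcases h01 (i - s) (by omega) with h0 | h0
    · exact h0
    · rw [h0] at h; simp at h
  refine ⟨fun i => if μ i = 1 then i + s else if s ≤ i ∧ μ (i - s) = 1 then i - s else i, ?_, ?_⟩
  · intro i hi
    dsimp only
    split
    · rename_i h
      by_contra hc
      have := hz i hi (by omega)
      omega
    · split <;> omega
  · intro f hf
    have hmask : ∀ i < N, μ i * (2 ^ B - 1) < 2 ^ B := fun i hi => by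
      have := Nat.two_pow_pos B
      rcases h01 i hi with h | h <;> rw [h] <;> omega
    show force ((pack B N f ^^^ pack B N f >>> (s * B)) &&& m * laneMask B)
      (fun t => pack B N f ^^^ (t ^^^ t <<< (s * B))) = _
    rw [force_eq, laneMask_eq, pack_shr hB hf, hm, pack_mul]
    have hfs : ∀ i < N, (if i + s < N then f (i + s) else 0) < 2 ^ B := fun i hi => by
      split <;> [exact hf _ ‹_›; exact Nat.two_pow_pos B]
    rw [pack_xor hB hf hfs, pack_land hB (fun i hi => Nat.xor_lt_two_pow (hf i hi) (hfs i hi)) hmask]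
    have hT : ∀ i < N, ((f i ^^^ if i + s < N then f (i + s) else 0) &&& μ i * (2 ^ B - 1))
        = if μ i = 1 then f i ^^^ f (i + s) else 0 := by
      intro i hi
      rcases h01 i hi with h | h
      · simp [h]
      · have his : i + s < N := by
          by_contra hc
          have := hz i hi (by omega)
          omega
        rw [h, Nat.one_mul, if_pos his, if_pos rfl, Nat.and_two_pow_sub_one_eq_mod,
          Nat.mod_eq_of_lt (Nat.xor_lt_two_pow (hf i hi) (hf _ his))]
    rw [pack_congr hT]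
    set T := fun i => if μ i = 1 then f i ^^^ f (i + s) else 0 with hTdef
    have hTb : ∀ i < N, T i < 2 ^ B := fun i hi => by
      show (if μ i = 1 then f i ^^^ f (i + s) else 0) < _
      split
      · rename_i h
        refine Nat.xor_lt_two_pow (hf i hi) (hf _ ?_)
        by_contra hc
        have := hz i hi (by omega)
        omega
      · exact Nat.two_pow_pos B
    have hTz : ∀ i < N, N ≤ i + s → T i = 0 := fun i hi his => by
      show (if μ i = 1 then f i ^^^ f (i + s) else 0) = 0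
      rw [hz i hi his]; rfl
    have hTs : ∀ i < N, (if s ≤ i then T (i - s) else 0) < 2 ^ B := fun i hi => by
      split
      · exact hTb _ (by omega)
      · exact Nat.two_pow_pos B
    rw [pack_shl hB hTb s hTz, pack_xor hB hTb hTs,
      pack_xor hB hf (fun i hi => Nat.xor_lt_two_pow (hTb i hi) (hTs i hi))]
    refine pack_congr fun i hi => ?_
    simp only [hTdef]
    by_cases h1 : μ i = 1
    · by_cases h2 : s ≤ i
      · simp [h1, h2, hdis i hi h2 h1]
      · simp [h1, h2]
    · by_cases h2 : s ≤ i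
      · by_cases h3 : μ (i - s) = 1
        · simp [h1, h2, h3, Nat.sub_add_cancel h2]
        · simp [h1, h2, h3]
      · simp [h1, h2]

theorem net_spec {B lg : ℕ} (hB : 0 < B) : ∀ {l : List (ℕ × ℕ)}, netOK B lg l = true →
    ∃ π : ℕ → ℕ, (∀ i < 2 ^ lg, π i < 2 ^ lg) ∧ ∀ f : ℕ → ℕ, (∀ i < 2 ^ lg, f i < 2 ^ B) →
      applyNet B l (pack B (2 ^ lg) f) = pack B (2 ^ lg) (fun i => f (π i))
  | [], _ => ⟨fun i => i, fun _ h => h, fun _ _ => applyNet_nil _ _⟩
  | st :: l, h => by
    rw [show netOK B lg (st :: l) = (stageOK B lg st && netOK B lg l) from rfl, Bool.and_eq_true] at h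
    obtain ⟨π, hπ, hπf⟩ := stage_spec hB h.1
    obtain ⟨ρ, hρ, hρf⟩ := net_spec hB h.2
    refine ⟨fun i => π (ρ i), fun i hi => hπ _ (hρ i hi), fun f hf => ?_⟩
    rw [applyNet_cons, hπf f hf, hρf _ (fun i hi => hf _ (hπ i hi))]

theorem self_lt_two_pow_of_lt {B lg i : ℕ} (hlg : lg ≤ B) (hi : i < 2 ^ lg) : i < 2 ^ B :=
  lt_of_lt_of_le hi (Nat.pow_le_pow_right (by norm_num) hlg)

theorem tau_spec {B lg : ℕ} (hB : 0 < B) (hlg : lg ≤ B) {l : List (ℕ × ℕ)} (h : netOK B lg l = true) :
    (∀ i < 2 ^ lg, tau B lg l i < 2 ^ lg) ∧ ∀ f : ℕ → ℕ, (∀ i < 2 ^ lg, f i < 2 ^ B) →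
      applyNet B l (pack B (2 ^ lg) f) = pack B (2 ^ lg) (fun i => f (tau B lg l i)) := by
  obtain ⟨π, hπ, hπf⟩ := net_spec hB h
  have heq : ∀ i < 2 ^ lg, tau B lg l i = π i := by
    intro i hi
    unfold tau
    rw [ramp_eq, hπf _ (fun j hj => self_lt_two_pow_of_lt hlg hj),
      lane_pack hB (fun j hj => self_lt_two_pow_of_lt hlg (hπ j hj)) hi]
  refine ⟨fun i hi => (heq i hi).symm ▸ hπ i hi, fun f hf => ?_⟩
  rw [hπf f hf]
  exact pack_congr fun i hi => by rw [heq i hi]

end Cfsg.Agent.CosetEnum
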