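/-
A derivation check split over several kernel computations.
Main result: `Deriv.check_of_ranges`.
-/
import Cfsg.Agent.Lib.CosetEnum.Seed

set_option autoImplicit false

namespace Cfsg.Agent.CosetEnum

namespace Deriv

variable {D : Deriv}

theorem allRange_of_all {p : ℕ → Bool} : ∀ {d lo hi : ℕ}, hi ≤ lo + 2 ^ d →
    (∀ i, lo ≤ i → i < hi → p i = true) → allRange p d lo hi = true
  | 0, lo, hi, _, h => by
    show (Nat.ble hi lo || p lo) = true
    by_cases hl : hi ≤ lo
    · simp [hl]
    · simp [h lo le_rfl (by omega)]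
  | d + 1, lo, hi, hd, h => by
    show (Nat.ble hi lo || force ((lo + hi) / 2) fun mid =>
      allRange p d lo mid && allRange p d mid hi) = true
    rw [force_eq]
    by_cases hl : hi ≤ lo
    · simp [hl]
    · rw [pow_succ] at hd
      simp [allRange_of_all (p := p) (d := d) (lo := lo) (hi := (lo + hi) / 2) (by omega)
          (fun i h1 h2 => h i h1 (by omega)),
        allRange_of_all (p := p) (d := d) (lo := (lo + hi) / 2) (hi := hi) (by omega)
          (fun i h1 h2 => h i (by omega) h2)]

/-- The facts in a range are justified. -/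
noncomputable def rangeOK (D : Deriv) (lo hi : ℕ) : Bool :=
  Nat.ble hi (lo + 1048576) && allRange D.factOK 20 lo hi

theorem facts_append {lo mid hi : ℕ} (h₁ : ∀ i, lo ≤ i → i < mid → D.factOK i = true)
    (h₂ : ∀ i, mid ≤ i → i < hi → D.factOK i = true) : ∀ i, lo ≤ i → i < hi → D.factOK i = true := by
  intro i hl hh
  by_cases hm : i < mid
  · exact h₁ i hl hm
  · exact h₂ i (by omega) hh

theorem facts_of_range {lo hi : ℕ} (h : rangeOK D lo hi = true) :
    ∀ i, lo ≤ i → i < hi → D.factOK i = true := by
  simp only [rangeOK, Bool.and_eq_true, Nat.ble_eq] at h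
  exact allRange_spec (by norm_num; omega) h.2

/-- Everything in `check` except the facts. -/
noncomputable def frameOK (D : Deriv) : Bool :=
  D.invOK && (Nat.blt D.nfacts 1048576 && (Nat.ble (D.fa D.nfacts) D.k &&
    D.walk D.nfacts D.tgtLen D.tgtOff 0 [] 0 fun cur w found =>
      Nat.beq cur 0 && (Nat.beq found 0 && decide (w = D.tgt.reverse))))

theorem check_of_ranges (hframe : frameOK D = true)
    (hfacts : ∀ i, 0 ≤ i → i < D.nfacts → D.factOK i = true) : D.check = true := by
  unfold frameOK at hframe
  simp only [Bool.and_eq_true] at hframe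
  obtain ⟨h1, h2, h3, h4⟩ := hframe
  have hall : allRange D.factOK 20 0 D.nfacts = true :=
    allRange_of_all (by simp only [Nat.blt_eq] at h2; norm_num; omega) hfacts
  unfold Deriv.check
  simp only [Bool.and_eq_true]
  exact ⟨h1, hall, h2, h3, h4⟩

end Deriv

end Cfsg.Agent.CosetEnum
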