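/-
The presented group Fi22 as a `Setup`.
Main definitions: `fi22Setup`, `fi22Letters`.
-/
import Cfsg.Agent.Lib.CosetEnum.Order

set_option autoImplicit false

namespace Cfsg.Agent.CosetEnum

open Cfsg.Spor in
/-- The setup of the presented group Fi22. -/
def fi22Setup : Setup Fi22.Gen where
  edges := Fi22.edges
  extra := Fi22.extra
  gens := [.a, .b, .c, .d, .e, .f, .g, .h, .i]
  pos := [0, 1, 2, 3, 4, 5, 6, 7, 8]
  lt := [(.a, true), (.b, true), (.c, true), (.d, true), (.e, true), (.f, true), (.g, true), (.h, true), (.i, true)]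

theorem fi22Setup_gens : ∀ x, x ∈ fi22Setup.gens := by intro x; cases x <;> simp [fi22Setup]

/-- The letters of the presented group Fi22. -/
def fi22Letters : Data := letterData 9 [0, 1, 2, 3, 4, 5, 6, 7, 8]

end Cfsg.Agent.CosetEnum
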