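import Cfsg.Agent.Lib.CosetEnum.Order

/-!
# A presentation of a group of type G2(5)

The first forty-four printed relations of the Lyons group, with the generator `c1` replaced by `c`.

* `Gen`, `extra` : the presentation
* `lyHSetup`, `lyHLetters` : its setup
-/

set_option autoImplicit false

namespace Cfsg.Agent.LyH

/-- The generators. -/
inductive Gen
  | a
  | b
  | c
  | c2
  | c3
  | c4
  | c5
  | e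
  | d
  deriving DecidableEq

/-- The generator a as a word. -/
abbrev a : FreeGroup Gen := FreeGroup.of Gen.a
/-- The generator b as a word. -/
abbrev b : FreeGroup Gen := FreeGroup.of Gen.b
/-- The generator c as a word. -/
abbrev c : FreeGroup Gen := FreeGroup.of Gen.c
/-- The generator c2 as a word. -/
abbrev c2 : FreeGroup Gen := FreeGroup.of Gen.c2
/-- The generator c3 as a word. -/
abbrev c3 : FreeGroup Gen := FreeGroup.of Gen.c3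
/-- The generator c4 as a word. -/
abbrev c4 : FreeGroup Gen := FreeGroup.of Gen.c4
/-- The generator c5 as a word. -/
abbrev c5 : FreeGroup Gen := FreeGroup.of Gen.c5
/-- The generator e as a word. -/
abbrev e : FreeGroup Gen := FreeGroup.of Gen.e
/-- The generator d as a word. -/
abbrev d : FreeGroup Gen := FreeGroup.of Gen.d

/-- The relators. -/
def extra : List (FreeGroup Gen) := [
  (a ^ 8),
  (b ^ 5),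
  a * b * a * b * a * b * a * b,
  ((a⁻¹) ^ 2) * (b⁻¹) * (a ^ 2) * b,
  (a⁻¹) * (b⁻¹) * a * b * (a⁻¹) * (b⁻¹) * a * b * (a⁻¹) * (b⁻¹) * a * b,
  c2 * (a⁻¹) * (c⁻¹) * a,
  c3 * (b⁻¹) * (c⁻¹) * b,
  c4 * b * (c⁻¹) * (b⁻¹),
  c5 * (c2⁻¹) * (c⁻¹) * c2 * c,
  (c ^ 5),
  (c5 ^ 5),
  (c⁻¹) * (c5⁻¹) * c * c5,
  (c2⁻¹) * (c5⁻¹) * c2 * c5,
  (c3⁻¹) * (c5⁻¹) * c3 * c5,
  (c4⁻¹) * (c5⁻¹) * c4 * c5,
  (c⁻¹) * (c3⁻¹) * c * c3 * (c5 ^ 2),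
  (c⁻¹) * (c4⁻¹) * c * c4 * ((c5⁻¹) ^ 2),
  (c2⁻¹) * (c3⁻¹) * c2 * c3 * c5,
  (c2⁻¹) * (c4⁻¹) * c2 * c4,
  (c3⁻¹) * (c4⁻¹) * c3 * c4 * c5,
  (a⁻¹) * c2 * a * (c ^ 2),
  (a⁻¹) * c3 * a * (c4⁻¹) * (c⁻¹) * (c3 ^ 2),
  (a⁻¹) * c4 * a * (c4⁻¹) * (c⁻¹) * (c4⁻¹) * c3 * c2 * (c⁻¹),
  (a⁻¹) * c5 * a * ((c5⁻¹) ^ 2),
  (b⁻¹) * c2 * b * c4 * c * c4 * (c3⁻¹) * (c2⁻¹),
  (b⁻¹) * c3 * b * (c3 ^ 2) * (c4⁻¹) * ((c⁻¹) ^ 2),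
  (b⁻¹) * c5 * b * (c5⁻¹),
  e * (d⁻¹) * (c⁻¹) * (d⁻¹) * b * (a⁻¹) * (b⁻¹) * (c⁻¹) * (d⁻¹) * (a⁻¹) * (c⁻¹) * a * (c⁻¹) * (a⁻¹) * c * a * (b ^ 2),
  (e ^ 2),
  (e⁻¹) * c * e * c * (b⁻¹) * (c3⁻¹) * (b⁻¹),
  (e⁻¹) * c3 * e * a * c4 * c * (c2⁻¹) * (a⁻¹) * ((b⁻¹) ^ 2),
  (e⁻¹) * c4 * e * (c4⁻¹) * c3 * ((b⁻¹) ^ 2),
  (e⁻¹) * c5 * e * c4 * (c⁻¹) * c3 * (c⁻¹),
  e * (a ^ 2) * e * c4 * (c5⁻¹) * (c⁻¹) * (a⁻¹) * b * (a⁻¹) * ((b⁻¹) ^ 2) * (a⁻¹),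
  (e⁻¹) * b * e * (c4 ^ 2) * c3 * (c⁻¹),
  e * a * (b ^ 2) * a * (b⁻¹) * a * e * c4 * (c5⁻¹) * (c⁻¹) * ((a⁻¹) ^ 2),
  e * c2 * e * (c2⁻¹) * e * c2 * (c4⁻¹) * a * c3 * (a ^ 3),
  d * (e⁻¹) * (b⁻¹) * c2 * (a⁻¹) * (e⁻¹) * (a⁻¹) * (e⁻¹) * (a⁻¹) * c5 * c4 * c * b * a * ((b⁻¹) ^ 2) * (a⁻¹),
  (d ^ 2) * ((a⁻¹) ^ 4),
  (b⁻¹) * (d⁻¹) * b * d,
  (d⁻¹) * a * d * ((a⁻¹) ^ 3),
  d * c5 * d * c5 * d * c5 * d * c5 * d * c5,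
  d * c5 * d * (c5⁻¹) * d * c5 * ((a⁻¹) ^ 2)]


end Cfsg.Agent.LyH

namespace Cfsg.Agent.CosetEnum

open Cfsg.Agent.LyH in
/-- The setup of the presentation. -/
def lyHSetup : Setup LyH.Gen where
  edges := []
  extra := LyH.extra
  gens := [.a, .b, .c, .c2, .c3, .c4, .c5, .e, .d]
  pos := [0, 2, 4, 6, 8, 10, 12, 14, 16]
  lt := [(.a, true), (.a, false), (.b, true), (.b, false), (.c, true), (.c, false), (.c2, true), (.c2, false), (.c3, true), (.c3, false), (.c4, true), (.c4, false), (.c5, true), (.c5, false), (.e, true), (.e, false), (.d, true), (.d, false)]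

theorem lyHSetup_gens : ∀ x, x ∈ lyHSetup.gens := by intro x; cases x <;> simp [lyHSetup]

/-- The letters of the presentation. -/
def lyHLetters : Data := letterData 18 [1, 0, 3, 2, 5, 4, 7, 6, 9, 8, 11, 10, 13, 12, 15, 14, 17, 16]

end Cfsg.Agent.CosetEnum
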