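/-
The presented group Suz as a `Setup`.
Main definitions: `suzSetup`, `suzLetters`.
-/
import Cfsg.Agent.Lib.CosetEnum.Order

set_option autoImplicit false

namespace Cfsg.Agent.CosetEnum

open Cfsg.Spor in
/-- The setup of the presented group Suz. -/
def suzSetup : Setup Suz.Gen where
  edges := Suz.edges
  extra := Suz.extra
  gens := [.a, .b, .c, .d, .e, .f, .g]
  pos := [0, 1, 2, 3, 4, 5, 6]
  lt := [(.a, true), (.b, true), (.c, true), (.d, true), (.e, true), (.f, true), (.g, true)]

theorem suzSetup_gens : ∀ x, x ∈ suzSetup.gens := by intro x; cases x <;> simp [suzSetup]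

/-- The letters of the presented group Suz. -/
def suzLetters : Data := letterData 7 [0, 1, 2, 3, 4, 5, 6]

end Cfsg.Agent.CosetEnum
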