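/-
A table check split over several kernel computations: the loops are processed in parts, with the accumulated
flags between two parts given as literals.
Main results: `Data.goLoops_append`, `Data.check_of_parts`.
-/
import Cfsg.Agent.Lib.CosetEnum.Check

set_option autoImplicit false

namespace Cfsg.Agent.CosetEnum

namespace Data

variable {D : Data}

/-- The loops of one part are closed. -/
noncomputable def loopsOKOf (D : Data) (l : List (Bool × List ℕ)) : Bool :=
  List.all l fun p => Bool.rec (D.fixes0 p.2) (D.closed p.2) p.1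

/-- One part of the flag computation, from a given accumulator to a given one. -/
noncomputable def partOK (D : Data) (l : List (Bool × List ℕ)) (a b : ℕ) : Bool :=
  force a fun a => Nat.beq (D.goLoops l a) b

/-- The final accumulator covers all edges. -/
noncomputable def coverFrom (D : Data) (a : ℕ) : Bool :=
  force (Nat.mul (below D.B D.n D.one) (Nat.sub (Nat.shiftLeft 1 D.k) 1)) fun M => Nat.beq (Nat.land a M) M

theorem go_map (f : ℕ → ℕ) : ∀ (w : List ℕ) (pm acc : ℕ) (K : ℕ → ℕ → ℕ),
    D.go w pm acc (fun s a => f (K s a)) = f (D.go w pm acc K)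
  | [], _, _, _ => rfl
  | a :: v, pm, acc, K => by
    show force (D.pmStep a pm) (fun pm' => D.go v pm' acc fun sv acc' =>
        force (applyNet D.B (D.net a) sv) fun s =>
        force (Nat.lor acc' (Nat.shiftLeft (vlt D.B D.one (vmax D.B D.one pm s) (D.rank a)) a)) fun acc'' =>
        force (vmax D.B D.one (D.rank a) s) fun sa => f (K sa acc''))
      = f (force (D.pmStep a pm) fun pm' => D.go v pm' acc fun sv acc' =>
        force (applyNet D.B (D.net a) sv) fun s =>
        force (Nat.lor acc' (Nat.shiftLeft (vlt D.B D.one (vmax D.B D.one pm s) (D.rank a)) a)) fun acc'' =>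
        force (vmax D.B D.one (D.rank a) s) fun sa => K sa acc'')
    simp only [force_eq]
    exact go_map f v _ _ fun sv acc' => K (vmax D.B D.one (D.rank a) (applyNet D.B (D.net a) sv))
      (Nat.lor acc' (Nat.shiftLeft (vlt D.B D.one (vmax D.B D.one pm (applyNet D.B (D.net a) sv)) (D.rank a)) a))

theorem goLoops_append : ∀ (l₁ l₂ : List (Bool × List ℕ)) (acc : ℕ),
    D.goLoops (l₁ ++ l₂) acc = D.goLoops l₂ (D.goLoops l₁ acc)
  | [], _, _ => rfl
  | p :: l, l₂, acc => by
    show (D.go p.2 (D.pm0 p.1) acc fun _ acc' => D.goLoops (l ++ l₂) acc') =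
      D.goLoops l₂ (D.go p.2 (D.pm0 p.1) acc fun _ acc' => D.goLoops l acc')
    rw [show (fun (_ : ℕ) (acc' : ℕ) => D.goLoops (l ++ l₂) acc') =
      (fun (s : ℕ) (a : ℕ) => D.goLoops l₂ ((fun (_ : ℕ) (acc' : ℕ) => D.goLoops l acc') s a)) from
      funext fun _ => funext fun a => goLoops_append l l₂ a]
    exact go_map (D.goLoops l₂) _ _ _ _

theorem partOK_eq {l : List (Bool × List ℕ)} {a b : ℕ} (h : partOK D l a b = true) : D.goLoops l a = b := by
  unfold partOK at h
  rw [force_eq] at h
  exact Nat.eq_of_beq_eq_true h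

theorem partOK_append {l₁ l₂ : List (Bool × List ℕ)} {a b c : ℕ} (h₁ : partOK D l₁ a b = true)
    (h₂ : partOK D l₂ b c = true) : partOK D (l₁ ++ l₂) a c = true := by
  unfold partOK
  rw [force_eq, goLoops_append, partOK_eq h₁, partOK_eq h₂]
  exact Nat.beq_refl c

theorem loopsOKOf_append {l₁ l₂ : List (Bool × List ℕ)} (h₁ : loopsOKOf D l₁ = true)
    (h₂ : loopsOKOf D l₂ = true) : loopsOKOf D (l₁ ++ l₂) = true := by
  unfold loopsOKOf at *
  rw [List.all_append, h₁, h₂]
  rfl

theorem check_of_parts {ls : List (Bool × List ℕ)} {a : ℕ} (hls : D.loops = ls) (hp : D.permOK = true)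
    (ht : D.treeOK = true) (hr : D.rankOK = true) (hl : loopsOKOf D ls = true)
    (hpart : partOK D ls D.treeAcc a = true) (hcover : coverFrom D a = true) : D.check = true := by
  have hl' : D.loopsOK = true := by
    show loopsOKOf D D.loops = true
    rw [hls]; exact hl
  have hc : D.coverOK = true := by
    unfold Data.coverOK
    rw [hls, partOK_eq hpart]
    exact hcover
  unfold Data.check
  rw [hp, ht, hr, hl', hc]
  rfl

end Data

end Cfsg.Agent.CosetEnum

namespace Cfsg.Agent.CosetEnum

namespace Data

variable {D : Data}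

/-- Continue a trace from a given vector. -/
noncomputable def traceFrom (D : Data) (V : ℕ) (w : List ℕ) : ℕ :=
  List.rec (motive := fun _ => ℕ) V (fun a _ ih => force ih fun V => applyNet D.B (D.net a) V) w

theorem trace_append : ∀ (u v : List ℕ), D.trace (u ++ v) = traceFrom D (D.trace v) u
  | [], _ => rfl
  | a :: u, v => by
    show force (D.trace (u ++ v)) (fun V => applyNet D.B (D.net a) V) =
      force (traceFrom D (D.trace v) u) fun V => applyNet D.B (D.net a) V
    rw [trace_append u v]

/-- A closed word from a midpoint. -/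
theorem closed_of_mid {u v : List ℕ} {V : ℕ} (hu : (u ++ v).all (fun a => Nat.blt a D.k) = true)
    (hv : Nat.beq (D.trace v) V = true) (h : Nat.beq (traceFrom D V u) D.idv = true) :
    D.closed (u ++ v) = true := by
  unfold Data.closed
  rw [hu, trace_append, Nat.eq_of_beq_eq_true hv, h]
  rfl

end Data

end Cfsg.Agent.CosetEnum

namespace Cfsg.Agent.CosetEnum

namespace Data

/-- A trace from a midpoint. -/
theorem trace_of_mid {D : Data} {u v : List ℕ} {V W : ℕ} (hv : Nat.beq (D.trace v) V = true)
    (h : Nat.beq (traceFrom D V u) W = true) : Nat.beq (D.trace (u ++ v)) W = true := by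
  rw [trace_append, Nat.eq_of_beq_eq_true hv, h]

end Data

end Cfsg.Agent.CosetEnum
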